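import Cfsg.Agent.H89.Gen.Meet

/-!
Weakly normal subsystems are weakly normal in intermediate weakly normal subsystems.
-/

set_option autoImplicit false
set_option linter.style.haveILetI false
set_option linter.unusedSectionVars false

namespace Cfsg.Agent.H89.Gen

open Cfsg Cfsg.FusionSystem Cfsg.Agent.FusionSys Cfsg.Agent.H91.CentFocal
open Cfsg.FusionSystem (centralizerIn normalizerIn)

variable {Ω : Type*} [Group Ω] {S T U : Subgroup Ω} {F : FusionSystem S} {G : FusionSystem U}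
  {W : FusionSystem T} {p : ℕ}

theorem closed_sub (hG : G.IsSubsystemOf F) (hT : F.StronglyClosed T) (hTU : T ≤ U) :
    G.StronglyClosed T :=
  stronglyClosed_iff.2 ⟨hTU, fun R f hR hf x hx =>
    (stronglyClosed_iff.1 hT).2 R f hR (isMap_of_sub hG hf) x hx⟩

theorem le_of_sub (hWG : W.IsSubsystemOf G) : T ≤ U :=
  (isMap_of_sub hWG (isMap_id W le_rfl)).le

variable [Finite S] [Fact p.Prime]

theorem weaklyNormal_sub (hS : IsPGroup p S) (hGs : G.IsSaturated p) (hGF : G.IsSubsystemOf F)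
    (hUS : U ≤ S) (hW : W.IsWeaklyNormalIn F p) (hWG : W.IsSubsystemOf G) :
    W.IsWeaklyNormalIn G p := by
  have hTU := le_of_sub hWG
  have hcl := closed_sub hGF hW.2.2.2.1 hTU
  haveI : Finite U := finite_of_le hUS
  haveI : Finite T := finite_of_le hTU
  have hUp : IsPGroup p U := hS.to_le hUS
  have hTp : IsPGroup p T := hUp.to_le hTU
  have hGFaut : ∀ {Q : Subgroup Ω}, Q ≤ U → G.autGroup Q ≤ F.autGroup Q := fun hQ α hα =>
    mem_autGroup_of_isMap (isMap_of_sub hGF ((mem_autGroup_iff hQ).1 hα))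
  refine ⟨hW.1, hGs, hWG, hcl, fun P hP φ hφ a ha => hW.2.2.2.2.1 P hP φ hφ a (hGFaut hTU ha),
    fun P hP φ hφ => ?_⟩
  -- the decomposition
  let FR : Subgroup Ω → (Ω → Ω) → Prop := fun P f =>
    ∃ a ∈ G.autGroup T, ∃ d, IsMap W P d ∧ ∀ x ∈ P, f x = autMap a (d x)
  have hcomp : ∀ {P Q : Subgroup Ω} {f g : Ω → Ω}, FR P f → FR Q g → (∀ x ∈ P, f x ∈ Q) →
      FR P (g ∘ f) := by
    rintro P Q f g ⟨a, ha, d, hd, hfe⟩ ⟨b, hb, e, he, hge⟩ hm
    obtain ⟨χ, hχ, hχe⟩ := invariant_map hW.2.2 (hGFaut hTU (inv_mem ha)) he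
    have ha' : IsMap G T (autMap a⁻¹) := (mem_autGroup_iff hTU).1 (inv_mem ha)
    refine ⟨b * a, mul_mem hb ha, χ ∘ d, hd.comp hχ fun x hx => ?_, fun x hx => ?_⟩
    · refine (ha'.mono he.le).mem_imgSub.2 ⟨f x, hm x hx, ?_⟩
      rw [hfe x hx, S5114.inv_autMap_apply a (hd.mem_S hx)]
    · have hy := hm x hx
      have h1 : χ (d x) = autMap a⁻¹ (e (f x)) := by
        rw [← hχe _ hy, hfe x hx, S5114.inv_autMap_apply a (hd.mem_S hx)]
      rw [Function.comp_apply, Function.comp_apply, h1, autMap_mul _ _ (autMap_mem _ (he.mem_S hy)),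
        autMap_inv_apply a (he.mem_S hy), hge _ hy]
  suffices H : ∀ (P : Subgroup Ω) (f : Ω → Ω), P ≤ T → IsMap G P f → FR P f by
    obtain ⟨a, ha, d, ⟨ψ, hψ, hψe⟩, hde⟩ := H P _ hP (isMap_of_mem hφ)
    refine ⟨a, ha, ψ, hψ, fun x hx => ?_⟩
    rw [← homFun_coe φ x, hde x x.2, ← autMap_apply a hx, hψe x]
  intro P f hP hf
  induction hn : Nat.card T - Nat.card P using Nat.strong_induction_on generalizing P f with
  | _ n ih =>
  rcases hP.eq_or_lt with hPe | hPlt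
  · subst P
    obtain ⟨a, ha, hae⟩ := (isIso_of_mapsTo hf fun x hx =>
      (stronglyClosed_iff.1 hcl).2 _ f le_rfl hf x hx).exists_aut
    exact ⟨a, ha, id, isMap_id W le_rfl, fun x hx => (hae x hx).symm⟩
  have hbig : ∀ {R : Subgroup Ω} {g : Ω → Ω}, Nat.card P < Nat.card R → R ≤ T →
      IsMap G R g → FR R g := fun {R g} hlt hR hg => by
    have := Subgroup.card_le_of_le hR
    exact ih _ (by omega) R g hR hg rfl
  have hmono : ∀ {R R' : Subgroup Ω} {g : Ω → Ω}, FR R g → R' ≤ R → FR R' g :=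
    fun ⟨a, ha, d, hd, he⟩ hle => ⟨a, ha, d, hd.mono hle, fun x hx => he x (hle hx)⟩
  have hcongr : ∀ {R : Subgroup Ω} {g g' : Ω → Ω}, FR R g → (∀ x ∈ R, g' x = g x) → FR R g' :=
    fun ⟨a, ha, d, hd, he⟩ hg => ⟨a, ha, d, hd, fun x hx => (hg x hx).trans (he x hx)⟩
  obtain ⟨Q, hQc, hQn⟩ := exists_isFullyNormalized G (hP.trans hTU)
  obtain ⟨u, hu⟩ := isConj_iff.1 hQc
  have hQT : Q ≤ T := target_le_of_closed hcl hP hu
  have hQlt : Q < T := lt_of_le_of_ne hQT fun h => hPlt.ne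
    (Subgroup.eq_of_le_of_card_ge hP (by rw [hu.card_eq, h]))
  have hgood : ∀ {R : Subgroup Ω}, G.IsConj R Q → R ≤ T →
      ∃ g, IsIso G R Q g ∧ FR R g ∧ ∃ k, IsIso G Q R k ∧ (∀ x ∈ R, k (g x) = x) ∧ FR Q k := by
    intro R hR hRT
    obtain ⟨g, hg, hgi, -⟩ := exists_map_to_fullyNormalized hUp hGs hQn hR
    have hRlt : R < T := lt_of_le_of_ne hRT fun h => hQlt.ne
      (Subgroup.eq_of_le_of_card_ge hQT (by rw [← hgi.card_eq, h]))
    have hlt : R < normalizerIn T R := lt_inf_normalizer_of_lt hTp hRlt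
    haveI := finite_of_le (S := T) (P := normalizerIn T R) normalizerIn_le
    have hcard : Nat.card P < Nat.card (normalizerIn T R) := by
      rw [show Nat.card P = Nat.card R from hu.card_eq.trans hgi.card_eq.symm]
      exact card_lt_card_of_lt hlt
    have hg' := hg.mono (fun x (hx : x ∈ normalizerIn T R) => ⟨hTU hx.1, hx.2⟩)
    obtain ⟨k, hk, hkg, -⟩ := hg'.isIso.exists_symm
    have hXT : imgSub g (normalizerIn T R) ≤ T := target_le_of_closed hcl normalizerIn_le hg'.isIso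
    have hQX : Q ≤ imgSub g (normalizerIn T R) := fun y hy => by
      obtain ⟨x, hx, rfl⟩ := hgi.exists_preimage hy
      exact hg'.mem_imgSub.2 ⟨x, hlt.le hx, rfl⟩
    refine ⟨g, hgi, hmono (hbig hcard normalizerIn_le hg') hlt.le, k, ?_, fun x hx => hkg x (hlt.le hx),
      hmono (hbig (hg'.isIso.card_eq ▸ hcard) hXT hk.isMap) hQX⟩
    refine ⟨hk.isMap.mono hQX, Set.ext fun z => ⟨?_, fun hz => ⟨g z, hgi.mem hz, hkg z (hlt.le hz)⟩⟩⟩
    rintro ⟨y, hy, rfl⟩
    obtain ⟨x, hx, rfl⟩ := hgi.exists_preimage hy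
    rw [hkg x (hlt.le hx)]
    exact hx
  have hfi := hf.isIso
  obtain ⟨g, hg, hgFR, k, hk, hk1, -⟩ := hgood hQc hP
  obtain ⟨g', hg', -, k', hk', hk'1, hk'FR⟩ := hgood (isConj_trans (isConj_symm hfi.isConj) hQc)
    (target_le_of_closed hcl hP hfi)
  obtain ⟨γ, hγ, hγe⟩ := ((hk.comp hfi).comp hg').exists_aut
  suffices hγFR : FR Q (autMap γ) by
    refine hcongr (hcomp (hcomp hgFR hγFR fun x hx => hg.mem hx) hk'FR fun x hx => ?_) fun x hx => ?_
    · exact autMap_mem γ (hg.mem hx)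
    · rw [Function.comp_apply, Function.comp_apply, hγe _ (hg.mem hx), Function.comp_apply,
        Function.comp_apply, hk1 x hx, hk'1 _ (hfi.mem hx)]
  have hQU := hQn.1
  haveI := finite_of_le hQU
  haveI := finite_autGroup G hQU
  obtain ⟨m, n', hm, hγmn, X, hRX, hX, ψ, hψ, hψe⟩ := H90.aut_decomp
    (isFullyAutomized_of_isFullyNormalized hUp hGs hQn)
    (receptive_of_isFullyNormalized hUp hGs hQn) ((W.autGroup Q).subgroupOf (G.autGroup Q))
    ⟨fun a ha y => WeakResidual.conj_mem_autGroup hW.2.2 hQT (hGFaut hQU y.2) ha⟩ ⟨γ, hγ⟩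
  set R := normalizerIn T Q with hR
  have hRX' : R ≤ X := fun g hg => by
    have hgU : g ∈ normalizerIn U Q := ⟨hTU hg.1, hg.2⟩
    have hne : H90.normAut Q g hg.2 = conjAut hg.2 := MulEquiv.ext fun _ => Subtype.ext rfl
    refine hX g hgU.1 hg.2 (by rw [hne]; exact conjAut_mem_autGroup G hQU hgU) ?_
    show H90.normAut Q g hg.2 ∈ W.autGroup Q
    rw [hne]
    exact conjAut_mem_autGroup W hQT hg
  haveI := finite_of_le (S := T) (P := R) normalizerIn_le
  have hQR : Q < R := lt_inf_normalizer_of_lt hTp hQlt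
  have hn'FR : FR Q (autMap (n' : MulAut Q)) := by
    refine hcongr (hmono (hbig (hu.card_eq ▸ card_lt_card_of_lt hQR) normalizerIn_le
      ((isMap_of_mem hψ).mono hRX')) hQR.le) fun x hx => ?_
    rw [homFun_mem ψ (hRX hx), autMap_apply _ hx]
    exact (hψe ⟨x, hx⟩).symm
  have hmFR : FR Q (autMap (m : MulAut Q)) :=
    ⟨1, one_mem _, _, (mem_autGroup_iff hQT).1 hm, fun x hx =>
      (FusionSys.autMap_one (hQT (autMap_mem _ hx))).symm⟩
  refine hcongr (hcomp hn'FR hmFR fun x hx => autMap_mem _ hx) fun x hx => ?_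
  rw [show γ = (m : MulAut Q) * (n' : MulAut Q) from congrArg Subtype.val hγmn, autMap_mul _ _ hx,
    Function.comp_apply]

end Cfsg.Agent.H89.Gen
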