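import Cfsg.Agent.H89.Gen.SubNormal
import Cfsg.Agent.H89.ResidualNormal

/-!
The largest subsystem over `T₁ ∩ T₂` normal in two normal subsystems and in the whole system.
-/

set_option autoImplicit false
set_option linter.style.haveILetI false
set_option linter.unusedSectionVars false

namespace Cfsg.Agent.H89.Gen

open Cfsg Cfsg.FusionSystem Cfsg.Agent.FusionSys Cfsg.Agent.H91.CentFocal
open Cfsg.Agent.H89.ResidualNormal (ExtT extSub maps_top map_cent_top)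
open Cfsg.FusionSystem (centralizerIn normalizerIn)
open Cfsg.Agent.S5114 (InE0 Hyp0)

variable {Ω : Type*} [Group Ω] {S T : Subgroup Ω} {F : FusionSystem S} {W : FusionSystem T} {p : ℕ}

/-- An element of `Λ` after a map lying in every system with the `p`-power automorphisms. -/
def FacL (p : ℕ) (W : FusionSystem T) (Λ : Subgroup (MulAut T)) (P : Subgroup Ω) (f : Ω → Ω) : Prop :=
  ∃ β ∈ Λ, ∃ f₀, InE0 p W P f₀ ∧ ∀ x ∈ P, f x = autMap β (f₀ x)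

variable [Finite T] [Fact p.Prime] {Λ : Subgroup (MulAut T)}

theorem FacL.congr {P : Subgroup Ω} {f g : Ω → Ω} (h : FacL p W Λ P f) (he : ∀ x ∈ P, g x = f x) :
    FacL p W Λ P g := by
  obtain ⟨β, hβ, f₀, hf₀, hfe⟩ := h
  exact ⟨β, hβ, f₀, hf₀, fun x hx => (he x hx).trans (hfe x hx)⟩

theorem FacL.comp (hΛ : Λ ≤ W.autGroup T) {P Q : Subgroup Ω} {f g : Ω → Ω} (hf : FacL p W Λ P f)
    (hg : FacL p W Λ Q g) (h : ∀ x ∈ P, f x ∈ Q) : FacL p W Λ P (g ∘ f) := by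
  obtain ⟨β, hβ, f₀, hf₀, hfe⟩ := hf
  obtain ⟨γ, hγ, g₀, hg₀, hge⟩ := hg
  have hβ' := hΛ hβ
  have hc := hg₀.conj (inv_mem hβ')
  have hb' : IsMap W T (autMap β⁻¹) := autGroup_set_subgroup le_rfl (inv_mem hβ')
  refine ⟨γ * β, mul_mem hγ hβ, _, hf₀.comp hc fun x hx => ?_, fun x hx => ?_⟩
  · refine (hb'.mono hg₀.isMap.le).mem_imgSub.2 ⟨f x, h x hx, ?_⟩
    rw [hfe x hx, S5114.inv_autMap_apply β (hf₀.isMap.mem_S hx)]
  · simp only [Function.comp_apply, inv_inv]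
    have h1 : autMap β (f₀ x) ∈ Q := hfe x hx ▸ h x hx
    rw [autMap_mul γ β (autMap_mem _ (hg₀.isMap.mem_S h1)), hge _ (h x hx), hfe x hx]
    rw [autMap_inv_apply β (hg₀.isMap.mem_S h1)]

theorem FacL.inv (hΛ : Λ ≤ W.autGroup T) {P Q : Subgroup Ω} {f g : Ω → Ω} (hf : IsIso W P Q f)
    (hgf : ∀ x ∈ P, g (f x) = x) (h : FacL p W Λ P f) : FacL p W Λ Q g := by
  obtain ⟨β, hβ, f₀, hf₀, hfe⟩ := h
  have hβ' := hΛ hβ
  obtain ⟨g₀, hg₀, hg₀f⟩ := hf₀.exists_inv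
  have hb : IsMap W T (autMap β) := autGroup_set_subgroup le_rfl hβ'
  refine ⟨β⁻¹, inv_mem hβ, _, (hg₀.conj hβ').mono fun y hy => ?_, fun y hy => ?_⟩
  · obtain ⟨x, hx, rfl⟩ := hf.exists_preimage hy
    exact (hb.mono hf₀.isMap.imgSub_le).mem_imgSub.2
      ⟨f₀ x, hf₀.isMap.mem_imgSub.2 ⟨x, hx, rfl⟩, (hfe x hx).symm⟩
  · obtain ⟨x, hx, rfl⟩ := hf.exists_preimage hy
    simp only [Function.comp_apply]
    rw [hgf x hx, hfe x hx, S5114.inv_autMap_apply β (hf₀.isMap.mem_S hx), hg₀f x hx,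
      S5114.inv_autMap_apply β (hf.isMap.le hx)]

/-- The subsystem given by `Λ`. -/
noncomputable def lamSys (p : ℕ) [Fact p.Prime] (W : FusionSystem T) (Λ : Subgroup (MulAut T))
    (hΛ : Λ ≤ W.autGroup T) : FusionSystem T :=
  subSys W (FacL p W Λ) (fun _ _ _ h he => h.congr he)
    (fun P a hP ha => ⟨1, one_mem _, conjMap a, fun E' _ => isMap_conj E' hP ha, fun x hx =>
      (FusionSys.autMap_one (conjMap_apply a x ▸ T.mul_mem (T.mul_mem ha (hP hx)) (T.inv_mem ha))).symm⟩)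
    (fun _ _ _ _ _ _ hm h1 h2 => h1.comp hΛ h2 hm) (fun _ _ _ _ hf _ hinv h => h.inv hΛ hf hinv)

theorem isMap_lamSys (hΛ : Λ ≤ W.autGroup T) {P : Subgroup Ω} {f : Ω → Ω} :
    IsMap (lamSys p W Λ hΛ) P f ↔ IsMap W P f ∧ FacL p W Λ P f :=
  Lift.isMap_subSys

theorem lamSys_sub (hΛ : Λ ≤ W.autGroup T) : (lamSys p W Λ hΛ).IsSubsystemOf W :=
  isSubsystemOf_iff_isMap.2 fun _ _ h => ((isMap_lamSys hΛ).1 h).1

theorem isMap_lamSys_inE0 (hΛ : Λ ≤ W.autGroup T) {P : Subgroup Ω} {f : Ω → Ω} (h : InE0 p W P f) :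
    IsMap (lamSys p W Λ hΛ) P f :=
  (isMap_lamSys hΛ).2 ⟨h.isMap, 1, one_mem _, f, h, fun _ hx =>
    (FusionSys.autMap_one (h.isMap.mem_S hx)).symm⟩

theorem hyp0_lamSys (hΛ : Λ ≤ W.autGroup T) : Hyp0 p W (lamSys p W Λ hΛ) := by
  intro P hc
  rintro _ ⟨α, hα, rfl⟩
  exact mem_autGroup_of_isMap (isMap_lamSys_inE0 hΛ (S5114.inE0_of_mem_opAut hc hα))

theorem isSaturated_lamSys (hT : IsPGroup p T) (hW : W.IsSaturated p) (hΛ : Λ ≤ W.autGroup T)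
    (hH : S5140.H0 p W ≤ Λ) : (lamSys p W Λ hΛ).IsSaturated p := by
  have hm := S5114.main hT hW (lamSys p W Λ hΛ) (lamSys_sub hΛ) (hyp0_lamSys hΛ)
  refine S5110.result p hT (lamSys p W Λ hΛ) {P | W.IsCentric P} (fun P hP => hP.1) ?_ ?_ ?_
    (fun P hP hn => (hn ((hm.2.2 P).1 hP)).elim)
  · intro P hP Q hQ
    obtain ⟨u, hu⟩ := isConj_iff.1 hQ
    exact isCentric_of_isConj hP (isIso_of_sub (lamSys_sub hΛ) hu).isConj
  · intro P hP
    obtain ⟨Q', hQ', hQn'⟩ := exists_isFullyNormalized W hP.1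
    obtain ⟨u, hu⟩ := isConj_iff.1 hQ'
    obtain ⟨β, hβ, f₀, hf₀, hfe⟩ := S5114.fac_of_map hT hW hu.isMap
    have hb' : IsMap W T (autMap β⁻¹) := autGroup_set_subgroup le_rfl (inv_mem hβ)
    have hQn : W.IsFullyNormalized (imgSub f₀ P) := by
      have he : imgSub (autMap β⁻¹) Q' = imgSub f₀ P := by
        refine le_antisymm ?_ ?_ <;> intro y hy
        · obtain ⟨z, hz, rfl⟩ := (hb'.mono hQn'.1).mem_imgSub.1 hy
          obtain ⟨x, hx, rfl⟩ := hu.exists_preimage hz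
          rw [hfe x hx, S5114.inv_autMap_apply β (hf₀.isMap.mem_S hx)]
          exact hf₀.isMap.mem_imgSub.2 ⟨x, hx, rfl⟩
        · obtain ⟨x, hx, rfl⟩ := hf₀.isMap.mem_imgSub.1 hy
          exact (hb'.mono hQn'.1).mem_imgSub.2 ⟨u x, hu.mem hx,
            by rw [hfe x hx, S5114.inv_autMap_apply β (hf₀.isMap.mem_S hx)]⟩
      exact he ▸ H91.Theta.isFullyNormalized_aut hQn' (inv_mem hβ)
    set Q := imgSub f₀ P with hQdef
    refine ⟨Q, (isMap_lamSys_inE0 hΛ hf₀).isIso.isConj, ?_, ?_⟩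
    · have hQS := hQn.1
      have hA := (isFullyAutomized_iff hT).1 (isFullyAutomized_of_isFullyNormalized hT hW hQn)
      refine (isFullyAutomized_iff hT).2 ⟨hQS, fun hd => hA.2 (dvd_trans hd ?_)⟩
      have h1 : autInducedBy T Q ≤ (lamSys p W Λ hΛ).autGroup Q := autInducedBy_le_autGroup _ hQS
      have h2 : (lamSys p W Λ hΛ).autGroup Q ≤ W.autGroup Q := fun α hα =>
        mem_autGroup_of_isMap ((isMap_lamSys hΛ).1 ((mem_autGroup_iff hQS).1 hα)).1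
      rw [← Subgroup.relIndex_mul_relIndex _ _ _ h1 h2]
      exact dvd_mul_right _ _
    · refine receptive_of_extend hQn.1 fun A f N hf hAN hN => ?_
      have hfR := (isMap_lamSys hΛ).1 hf.isMap
      have hfF : IsIso W A Q f := ⟨hfR.1, hf.image_eq⟩
      have hAc : W.IsCentric A := isCentric_of_isConj
        (isCentric_of_isConj hP hf₀.isMap.isIso.isConj) (isConj_symm hfF.isConj)
      obtain ⟨g, hg, hge⟩ := receptive_extend (receptive_of_isFullyNormalized hT hW hQn) hfF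
        (N := N) fun x hx => (hN x).1 hx
      replace hg : IsMap W N g := hg.mono le_sup_left
      obtain ⟨a, ha, e₀, he₀, hae⟩ := S5114.fac_of_map hT hW hg
      obtain ⟨h, hh, e₁, he₁, hhe⟩ := hfR.2
      refine ⟨g, (isMap_lamSys hΛ).2 ⟨hg, a, ?_, e₀, he₀, hae⟩, hge⟩
      obtain ⟨e₀', he₀', he₀e⟩ := (he₀.mono hAN).exists_inv
      have hc : InE0 p W (imgSub e₀ A) (e₁ ∘ e₀') := he₀'.comp he₁ fun y hy => by
        obtain ⟨x, hx, rfl⟩ := (he₀.mono hAN).isMap.mem_imgSub.1 hy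
        rw [he₀e x hx]; exact hx
      have hmem : h⁻¹ * a ∈ S5140.H0set p W := by
        refine ⟨mul_mem (inv_mem (hΛ hh)) ha, imgSub e₀ A, _,
          isCentric_of_isConj hAc (he₀.mono hAN).isMap.isIso.isConj, hc, fun y hy => ?_⟩
        obtain ⟨x, hx, rfl⟩ := (he₀.mono hAN).isMap.mem_imgSub.1 hy
        rw [autMap_mul _ _ (he₀.isMap.mem_S (hAN hx)), ← hae x (hAN hx), hge x hx, hhe x hx,
          S5114.inv_autMap_apply h (he₁.isMap.mem_S hx), Function.comp_apply, he₀e x hx]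
      have := mul_mem hh (hH (Subgroup.subset_closure hmem))
      rwa [mul_inv_cancel_left] at this
  · intro E hE
    have hm' : ∀ {P : Subgroup Ω} {f : Ω → Ω}, W.IsCentric P → IsMap (lamSys p W Λ hΛ) P f →
        IsMap E P f := fun hP ⟨φ, hφ, he⟩ => ⟨φ, hE _ hP hφ, he⟩
    have hSc : W.IsCentric T := ⟨le_rfl, fun Q hQ => by
      rw [eq_S_of_isConj hQ]; exact inf_le_left⟩
    have hEH : Hyp0 p W E := by
      intro P hc α hα
      exact mem_autGroup_of_isMap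
        (hm' hc (autGroup_set_subgroup hc.1 (hyp0_lamSys hΛ P hc hα)))
    rw [le_iff_isMap]
    intro P f hf
    obtain ⟨-, β, hβ, f₀, hf₀, hfe⟩ := (isMap_lamSys hΛ).1 hf
    have hb : IsMap E T (autMap β) := hm' hSc <| (isMap_lamSys hΛ).2
      ⟨autGroup_set_subgroup le_rfl (hΛ hβ), β, hβ, id, fun E' _ => isMap_id E' le_rfl,
        fun _ _ => rfl⟩
    exact ((hf₀ E hEH).comp hb fun x hx => hf₀.isMap.mem_S hx).congr hfe

omit [Finite T] in
theorem H0_le_residual [Finite T] {β : MulAut T} (hβ : β ∈ S5140.H0 p W) :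
    β ∈ (S5140.residual p W).autGroup T :=
  mem_autGroup_of_isMap (S5140.isMap_residual.2 ⟨autGroup_set_subgroup le_rfl (S5140.H0_le hβ), β, hβ,
    id, fun E' _ => isMap_id E' le_rfl, fun _ _ => rfl⟩)

/-- The system given by extendable automorphisms is normal. -/
theorem isNormalIn_lamSys [Finite S] (hS : IsPGroup p S) (hW : W.IsWeaklyNormalIn F p)
    (hΛ : Λ ≤ W.autGroup T) (hres : (S5140.residual p W).autGroup T ≤ Λ)
    (hconj : ∀ a ∈ F.autGroup T, ∀ β ∈ Λ, a * β * a⁻¹ ∈ Λ) (hext : ∀ β ∈ Λ, ExtT F T β) :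
    (lamSys p W Λ hΛ).IsNormalIn F p := by
  have hTS : T ≤ S := hW.2.2.2.1.1
  have hTp : IsPGroup p T := hS.to_le hTS
  refine ⟨⟨isSaturated_lamSys hTp hW.1 hΛ fun β hβ => hres (H0_le_residual hβ), hW.2.1,
    fun P => ((lamSys_sub hΛ) P).trans (hW.2.2.1 P), hW.2.2.2.1, fun P hP φ hφ a ha => ?_,
    fun P hP φ hφ => ?_⟩, fun α hα => ?_⟩
  · obtain ⟨hfW, β, hβ, f₀, hf₀, hfe⟩ := (isMap_lamSys hΛ).1 (isMap_of_mem hφ)
    have hc := ResidualNormal.inE0_conj hW.2.2 ha hf₀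
    have hb : IsMap F T (autMap a) := (mem_autGroup_iff hTS).1 ha
    have hβ' := hconj a ha β hβ
    have hm : IsMap (lamSys p W Λ hΛ) (imgSub (autMap a) P)
        (autMap (a * β * a⁻¹) ∘ (autMap a ∘ f₀ ∘ autMap a⁻¹)) := (isMap_lamSys hΛ).2
      ⟨hc.isMap.comp (autGroup_set_subgroup le_rfl (hΛ hβ')) fun x hx => hc.isMap.mem_S hx,
        a * β * a⁻¹, hβ', _, hc, fun _ _ => rfl⟩
    have himg : (P.subgroupOf T).map (T.subtype.comp a.toMonoidHom) = imgSub (autMap a) P := by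
      ext z
      constructor
      · rintro ⟨w, hw, rfl⟩
        exact (hb.mono hP).mem_imgSub.2 ⟨w, hw, autMap_coe a w⟩
      · intro hz
        obtain ⟨x, hx, rfl⟩ := (hb.mono hP).mem_imgSub.1 hz
        exact ⟨⟨x, hP hx⟩, hx, (autMap_apply a (hP hx)).symm⟩
    rw [← himg] at hm
    obtain ⟨χ, hχ, hχe⟩ := hm
    refine ⟨χ, hχ, fun x hx hax => ?_⟩
    rw [hχe ⟨_, hax⟩]
    have hy := hf₀.isMap.mem_S x.2
    show (autMap (a * β * a⁻¹) ∘ (autMap a ∘ f₀ ∘ autMap a⁻¹)) ((a ⟨x, hP x.2⟩ : T) : Ω) = _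
    simp only [Function.comp_apply]
    rw [← autMap_apply a (hP x.2), S5114.inv_autMap_apply a (hP x.2),
      autMap_mul _ _ (autMap_mem _ hy), S5114.inv_autMap_apply a hy, autMap_mul _ _ hy, ← hfe x x.2,
      homFun_coe, autMap_apply a hx]
  · obtain ⟨a, ha, g, hg, hge⟩ := frattini_map hW.2.2 hP (isMap_of_mem hφ)
    obtain ⟨β, hβ, f₀, hf₀, hfe⟩ := S5114.fac_of_map hTp hW.1 hg
    obtain ⟨φ₀, hφ₀, hφ₀e⟩ := isMap_lamSys_inE0 hΛ hf₀
    have hβF : β ∈ F.autGroup T :=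
      mem_autGroup_of_isMap (isMap_of_sub hW.2.2.1 (autGroup_set_subgroup le_rfl hβ))
    refine ⟨a * β, mul_mem ha hβF, φ₀, hφ₀, fun x hx => ?_⟩
    rw [← autMap_apply (a * β) hx, hφ₀e x, autMap_mul _ _ (hf₀.isMap.mem_S x.2), ← hfe x x.2,
      ← hge x x.2, homFun_coe]
  · have hαΛ : α ∈ Λ := by
      obtain ⟨-, β, hβ, f₀, hf₀, hfe⟩ := (isMap_lamSys hΛ).1 ((mem_autGroup_iff le_rfl).1 hα)
      obtain ⟨γ, hγ, hγe⟩ := (isIso_of_mapsTo (S5140.isMap_residual_inE0 hf₀)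
        fun x hx => hf₀.isMap.mem_S hx).exists_aut
      rw [show α = β * γ from aut_ext fun x hx => by rw [autMap_mul _ _ hx, hγe x hx, ← hfe x hx]]
      exact mul_mem hβ (hres hγ)
    obtain ⟨b, hb, hbT, hbc⟩ := hext α hαΛ
    haveI : Finite (T ⊔ centralizerIn S T : Subgroup Ω) :=
      finite_of_le (sup_le hTS centralizerIn_le)
    obtain ⟨β, hβ, hβe⟩ := (isIso_of_mapsTo hb fun y hy =>
      maps_top hW.2.2.2.1 hb hy).exists_aut
    refine ⟨β, hβ, fun x => ?_, fun c hc => ?_⟩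
    · rw [← autMap_coe β, Subgroup.coe_inclusion, hβe _ (Subgroup.mem_sup_left x.2), hbT _ x.2,
        autMap_coe]
    · rw [← autMap_coe β, hβe _ c.2]
      refine ⟨hbc _ hc, Subgroup.mul_mem _ (Subgroup.inv_mem _ ?_) ?_⟩
      · exact (FusionSys.mem_centralizerIn.1 hc).2
      · exact (FusionSys.mem_centralizerIn.1 (map_cent_top hW.2.2.2.1 hb hc)).2

omit [Finite T] in
/-- Automorphisms of a normal subsystem extend. -/
theorem extT_of_normal {D : FusionSystem T} (hD : D.IsNormalIn F p) {α : MulAut T}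
    (hα : α ∈ D.autGroup T) : ExtT F T α := by
  obtain ⟨β, hβ, hβ1, hβ2⟩ := hD.2 α hα
  refine ⟨autMap β, (mem_autGroup_iff (sup_le hD.1.2.2.2.1.1 centralizerIn_le)).1 hβ,
    fun t ht => ?_, fun c hc => ?_⟩
  · rw [autMap_apply β (Subgroup.mem_sup_left ht), autMap_apply α ht]
    exact hβ1 ⟨t, ht⟩
  · rw [autMap_apply β (Subgroup.mem_sup_right hc)]
    exact (hβ2 ⟨c, Subgroup.mem_sup_right hc⟩ hc).1

variable {U : Subgroup Ω} {G : FusionSystem U}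

/-- Extendable automorphisms in an invariant subsystem are permuted by `Aut_F(T)`. -/
theorem extT_conj [Finite S] (hS : IsPGroup p S) (hF : F.IsSaturated p) (hT : F.StronglyClosed T)
    (hU : F.StronglyClosed U) (hTU : T ≤ U) (hsub : G.IsSubsystemOf F)
    (hinv : ∀ (Y : Subgroup Ω) (g : Ω → Ω), Y ≤ U → ∀ hg : IsIso F Y Y g, ∀ β ∈ G.autGroup Y,
      hg.autEquiv β ∈ G.autGroup Y)
    {a β : MulAut T} (ha : a ∈ F.autGroup T) (hβ : ExtT G T β) : ExtT G T (a * β * a⁻¹) := by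
  obtain ⟨b, hb, hbT, hbc⟩ := hβ
  have hTn : F.IsFullyNormalized T := ⟨hT.1, fun R hR => by
    obtain ⟨f, hf⟩ := isConj_iff.1 hR
    rw [Subgroup.eq_of_le_of_card_ge (target_le_of_closed hT le_rfl hf) hf.card_eq.le]⟩
  obtain ⟨A, hA, hAe⟩ := receptive_extend (receptive_of_isFullyNormalized hS hF hTn)
    (isIso_autMap hT.1 ha) (N := centralizerIn S T) fun y hy =>
      (isIso_autMap hT.1 ha).isMap.inExt_of_centralizes hy
  replace hA : IsMap F (T ⊔ centralizerIn S T) A := hA.mono (le_of_eq (sup_comm _ _))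
  set C := centralizerIn U T with hC
  set Y := T ⊔ C with hY
  haveI : Finite U := finite_of_le hU.1
  haveI : Finite C := finite_of_le (S := U) centralizerIn_le
  have hYU : Y ≤ U := sup_le hTU centralizerIn_le
  haveI : Finite Y := finite_of_le hYU
  have hCC : C ≤ centralizerIn S T := fun c hc => FusionSys.mem_centralizerIn.2
    ⟨hU.1 (FusionSys.mem_centralizerIn.1 hc).1, (FusionSys.mem_centralizerIn.1 hc).2⟩
  have hAY : IsMap F Y A := hA.mono (sup_le_sup_left hCC T)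
  have hAC : ∀ c ∈ C, A c ∈ C := fun c hc => FusionSys.mem_centralizerIn.2
    ⟨(stronglyClosed_iff.1 hU).2 C A centralizerIn_le (hAY.mono le_sup_right) c hc,
      (FusionSys.mem_centralizerIn.1 (map_cent_top hT hA (hCC hc))).2⟩
  have hAYm : ∀ y ∈ Y, A y ∈ Y := fun y hy => hAY.mapsTo_sup
    (fun t ht => Subgroup.mem_sup_left ((hAe t ht).symm ▸ autMap_mem a ht))
    (fun c hc => Subgroup.mem_sup_right (hAC c hc)) hy
  have hAi : IsIso F Y Y A := isIso_of_mapsTo hAY hAYm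
  obtain ⟨βY, hβY, hβYe⟩ := (isIso_of_mapsTo hb fun y hy =>
    maps_top (closed_sub hsub hT hTU) hb hy).exists_aut
  refine ⟨autMap (hAi.autEquiv βY), (mem_autGroup_iff hYU).1 (hinv Y A hYU hAi βY hβY),
    fun t ht => ?_, fun c hc => ?_⟩
  · obtain ⟨s, hs, rfl⟩ : ∃ s ∈ T, autMap a s = t := ⟨_, autMap_mem _ ht, autMap_inv_apply a ht⟩
    conv_lhs => rw [← hAe s hs]
    rw [hAi.autMap_autEquiv βY (Subgroup.mem_sup_left hs), hβYe _ (Subgroup.mem_sup_left hs), hbT s hs,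
      hAe _ (autMap_mem β hs), autMap_mul _ _ (autMap_mem _ hs), S5114.inv_autMap_apply a hs,
      autMap_mul _ _ hs]
  · obtain ⟨d, hd, rfl⟩ := exists_preimage_of_card hAY le_sup_right hAC le_rfl hc
    have hdY : d ∈ Y := Subgroup.mem_sup_right hd
    have hbd : b d ∈ Y := maps_top (closed_sub hsub hT hTU) hb hdY
    rw [hAi.autMap_autEquiv βY hdY, hβYe _ hdY, ← hAY.map_inv hdY,
      ← hAY.map_mul (Y.inv_mem hdY) hbd, hAe _ (hbc d hd)]
    exact autMap_mem a (hbc d hd)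

variable {T₁ T₂ : Subgroup Ω} {E₁ : FusionSystem T₁} {E₂ : FusionSystem T₂}

/-- The largest common normal subsystem. -/
theorem exists_meet [Finite S] (hS : IsPGroup p S) (h₁ : E₁.IsNormalIn F p) (h₂ : E₂.IsNormalIn F p) :
    ∃ D : FusionSystem (T₁ ⊓ T₂), (D.IsNormalIn F p ∧ D.IsNormalIn E₁ p ∧ D.IsNormalIn E₂ p) ∧
      ∀ D' : FusionSystem (T₁ ⊓ T₂), D'.IsNormalIn F p → D'.IsNormalIn E₁ p → D'.IsNormalIn E₂ p →
        D'.IsSubsystemOf D := by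
  have hs := meet_setup hS h₁ h₂
  have hF := hs.hF
  haveI := hs.finite_T
  have hc₁ := h₁.1.2.2.2.1
  have hc₂ := h₂.1.2.2.2.1
  have hTp : IsPGroup p (T₁ ⊓ T₂ : Subgroup Ω) := hS.to_le hs.T_le
  set W := hs.D0 with hWdef
  have hW : W.IsWeaklyNormalIn F p := hs.isWeaklyNormal_D0
  have hWI : ∀ {P : Subgroup Ω} {f : Ω → Ω}, IsMap W P f → IsMap E₁ P f ∧ IsMap E₂ P f :=
    fun h => (isMap_meetSys _ _).1 (isMap_of_sub hs.D0_le h)
  haveI : Finite T₁ := finite_of_le hc₁.1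
  haveI : Finite T₂ := finite_of_le hc₂.1
  have hW₁ : W.IsWeaklyNormalIn E₁ p := weaklyNormal_sub hS h₁.1.1 h₁.1.2.2.1 hc₁.1 hW
    (isSubsystemOf_iff_isMap.2 fun _ _ h => (hWI h).1)
  have hW₂ : W.IsWeaklyNormalIn E₂ p := weaklyNormal_sub hS h₂.1.1 h₂.1.2.2.1 hc₂.1 hW
    (isSubsystemOf_iff_isMap.2 fun _ _ h => (hWI h).2)
  have hT₁p : IsPGroup p T₁ := hS.to_le hc₁.1
  have hT₂p : IsPGroup p T₂ := hS.to_le hc₂.1
  set Λ : Subgroup (MulAut (T₁ ⊓ T₂ : Subgroup Ω)) :=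
    W.autGroup (T₁ ⊓ T₂) ⊓ extSub hW.2.2.2.1 ⊓ extSub hW₁.2.2.2.1 ⊓ extSub hW₂.2.2.2.1 with hΛdef
  have hΛ : Λ ≤ W.autGroup (T₁ ⊓ T₂) := inf_le_left.trans (inf_le_left.trans inf_le_left)
  have hres : (S5140.residual p W).autGroup (T₁ ⊓ T₂) ≤ Λ := fun α hα =>
    ⟨⟨⟨mem_autGroup_of_isMap (isMap_of_sub S5140.residual_sub ((mem_autGroup_iff le_rfl).1 hα)),
      ResidualNormal.residual_aut_le hS hF hW.1 hW.2.2 hα⟩,
      ResidualNormal.residual_aut_le hT₁p h₁.1.1 hW.1 hW₁.2.2 hα⟩,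
      ResidualNormal.residual_aut_le hT₂p h₂.1.1 hW.1 hW₂.2.2 hα⟩
  have hconj : ∀ a ∈ F.autGroup (T₁ ⊓ T₂), ∀ β ∈ Λ, a * β * a⁻¹ ∈ Λ := by
    rintro a ha β ⟨⟨⟨hβW, hβF⟩, hβ₁⟩, hβ₂⟩
    exact ⟨⟨⟨WeakResidual.conj_mem_autGroup hW.2.2 le_rfl ha hβW,
      extT_conj hS hF hs.hT (stronglyClosed_iff.2 ⟨le_rfl, fun _ _ _ hg _ hx => hg.mem_S hx⟩) hs.T_le (fun _ => Set.Subset.rfl)
        (fun _ _ _ hg _ hβ => hg.autEquiv_mem_autGroup hβ) ha hβF⟩,
      extT_conj hS hF hs.hT hc₁ inf_le_left h₁.1.2.2.1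
        (fun _ _ hY hg _ hβ => autEquiv_mem h₁.1.2.2 hY hg hβ) ha hβ₁⟩,
      extT_conj hS hF hs.hT hc₂ inf_le_right h₂.1.2.2.1
        (fun _ _ hY hg _ hβ => autEquiv_mem h₂.1.2.2 hY hg hβ) ha hβ₂⟩
  have hsubaut : ∀ {U : Subgroup Ω} {G : FusionSystem U}, G.IsSubsystemOf F → T₁ ⊓ T₂ ≤ U →
      G.autGroup (T₁ ⊓ T₂) ≤ F.autGroup (T₁ ⊓ T₂) := fun hG hU α hα =>
    mem_autGroup_of_isMap (isMap_of_sub hG ((mem_autGroup_iff hU).1 hα))
  refine ⟨lamSys p W Λ hΛ, ⟨isNormalIn_lamSys hS hW hΛ hres hconj fun β hβ => hβ.1.1.2,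
    isNormalIn_lamSys hT₁p hW₁ hΛ hres
      (fun a ha => hconj a (hsubaut h₁.1.2.2.1 inf_le_left ha)) fun β hβ => hβ.1.2,
    isNormalIn_lamSys hT₂p hW₂ hΛ hres
      (fun a ha => hconj a (hsubaut h₂.1.2.2.1 inf_le_right ha)) fun β hβ => hβ.2⟩, ?_⟩
  intro D' hD hD₁ hD₂
  -- the automorphisms of `T₁ ∩ T₂` in `D'` lie in `W`
  have hDI : ∀ {P : Subgroup Ω} {f : Ω → Ω}, IsMap D' P f → IsMap E₁ P f ∧ IsMap E₂ P f :=
    fun h => ⟨isMap_of_sub hD₁.1.2.2.1 h, isMap_of_sub hD₂.1.2.2.1 h⟩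
  haveI := finite_autGroup D' (le_refl (T₁ ⊓ T₂))
  have hDn : D'.IsFullyNormalized (T₁ ⊓ T₂) := ⟨le_rfl, fun Q hQ => by rw [eq_S_of_isConj hQ]⟩
  have hsy := isSylowIn_of_fullyAutomized hTp (isFullyAutomized_of_isFullyNormalized hTp hD.1.1 hDn)
  haveI := finite_mulAut_of_le (le_refl (T₁ ⊓ T₂))
  have hDW : D'.autGroup (T₁ ⊓ T₂) ≤ W.autGroup (T₁ ⊓ T₂) := by
    intro α hα
    suffices h : (W.autGroup (T₁ ⊓ T₂)).subgroupOf (D'.autGroup (T₁ ⊓ T₂)) = ⊤ from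
      h.ge (Subgroup.mem_top (⟨α, hα⟩ : D'.autGroup (T₁ ⊓ T₂)))
    refine top_le_iff.1 ((Fusion.sylow_sup_pResidual hsy.toSylow).ge.trans (sup_le (fun y hy => ?_) ?_))
    · rw [hsy.coe_toSylow] at hy
      exact autInducedBy_le_autGroup W le_rfl hy
    · exact Cores.pResidual_le fun y hy => (mem_autGroup_iff le_rfl).2 (hs.isMap_D0.2
        (InD.gen hs.inH_T (by rwa [Subgroup.coe_subtype, Subgroup.orderOf_coe])
          ((isMap_meetSys _ _).2 (hDI (autGroup_set_subgroup le_rfl y.2)))))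
  have hrw := (ResidualNormal.isNormalIn hS hW (S5140.isSaturated_residual hTp hW.1)
    (fun _ => Set.Subset.rfl) fun _ => Set.Subset.rfl).1
  have hle : (S5140.residual p D').IsSubsystemOf (S5140.residual p W) :=
    WeakResidual.residual_le hS hD.1 hrw
  rw [isSubsystemOf_iff_isMap]
  intro P f hf
  obtain ⟨β, hβ, f₀, hf₀, hfe⟩ := S5114.fac_of_map hTp hD.1.1 hf
  have hβΛ : β ∈ Λ :=
    ⟨⟨⟨hDW hβ, extT_of_normal hD hβ⟩, extT_of_normal hD₁ hβ⟩, extT_of_normal hD₂ hβ⟩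
  have h₀ := isMap_of_sub hle (S5140.isMap_residual_inE0 hf₀)
  obtain ⟨h₀W, γ, hγ, f₁, hf₁, h₀e⟩ := S5140.isMap_residual.1 h₀
  refine (isMap_lamSys hΛ).2 ⟨(h₀W.comp (autGroup_set_subgroup le_rfl (hDW hβ))
    fun x hx => h₀W.mem_S hx).congr hfe,
    β * γ, mul_mem hβΛ (hres (H0_le_residual hγ)), f₁, hf₁, fun x hx => ?_⟩
  rw [hfe x hx, h₀e x hx, autMap_mul _ _ (hf₁.isMap.mem_S hx)]

end Cfsg.Agent.H89.Gen
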