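import Cfsg.Agent.H89.Gen.Frame
import Cfsg.Agent.H89.Lift.Sat
import Cfsg.Agent.H89.WeakResidual

/-!
For a normal subsystem `E` over `T` and a fully normalized `Q ≤ T`, an element of `Aut_E(Q)` of order prime to
`p` normalizing `Y ≤ Aut_T(Q)` extends to the preimage of `Y` in `N_S(Q)`, trivially modulo `T`.
-/

set_option autoImplicit false
set_option linter.style.haveILetI false
set_option linter.unusedSectionVars false

namespace Cfsg.Agent.H89.Gen

open Cfsg Cfsg.FusionSystem Cfsg.Agent.FusionSys Cfsg.Agent.H91.CentFocal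
open Cfsg.Agent.H91.CentSE (Ctr)
open Cfsg.Agent.H89.Lift (nSub mem_nSub nSub_le le_nSub inn_conj)
open Cfsg.FusionSystem (centralizerIn normalizerIn)

variable {Ω : Type*} [Group Ω] {S T : Subgroup Ω} {F : FusionSystem S} {E : FusionSystem T} {p : ℕ}

/-- A submonoid of a finite group as a subgroup. -/
def finSub {G : Type*} [Group G] [Finite G] (M : Submonoid G) : Subgroup G :=
  { M with
    inv_mem' := fun {x} hx => by
      show x⁻¹ ∈ M
      rw [← mul_one x⁻¹, ← pow_orderOf_eq_one x, ← Nat.sub_add_cancel (orderOf_pos x), pow_succ',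
        inv_mul_cancel_left]
      exact M.pow_mem hx _ }

/-- The automorphisms of `R` trivial modulo `X`. -/
def modGroup (R X : Subgroup Ω) [Finite (MulAut R)] : Subgroup (MulAut R) :=
  finSub
    { carrier := {a | ∀ x ∈ R, x⁻¹ * autMap a x ∈ X}
      one_mem' := fun x hx => by rw [FusionSys.autMap_one hx, inv_mul_cancel]; exact X.one_mem
      mul_mem' := fun {a b} ha hb x hx => by
        have := X.mul_mem (hb x hx) (ha _ (autMap_mem b hx))
        rw [autMap_mul _ _ hx]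
        rwa [mul_assoc, mul_inv_cancel_left] at this }

theorem mem_modGroup {R X : Subgroup Ω} [Finite (MulAut R)] {a : MulAut R} :
    a ∈ modGroup R X ↔ ∀ x ∈ R, x⁻¹ * autMap a x ∈ X := Iff.rfl

theorem modGroup_conj {R X : Subgroup Ω} [Finite (MulAut R)] (hRS : R ≤ S) {c a : MulAut R}
    (hc : c ∈ F.autGroup R) (hcX : ∀ y ∈ R, y ∈ X → autMap c y ∈ X) (ha : a ∈ modGroup R X) :
    c * a * c⁻¹ ∈ modGroup R X := fun x hx => by
  obtain ⟨y, hy, rfl⟩ := (isIso_autMap hRS hc).exists_preimage hx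
  rw [autMap_mul _ _ (autMap_mem _ hy), ← autMap_mul c⁻¹ c hy, inv_mul_cancel,
    FusionSys.autMap_one hy, autMap_mul _ _ hy]
  have hm := (isIso_autMap hRS hc).isMap
  rw [← hm.map_inv hy, ← hm.map_mul (R.inv_mem hy) (autMap_mem a hy)]
  exact hcX _ (R.mul_mem (R.inv_mem hy) (autMap_mem a hy)) (ha y hy)

theorem setStab_mapsTo {R P : Subgroup Ω} (hPR : P ≤ R) {a : MulAut R} (ha : a ∈ setStab R P) {x : Ω}
    (hx : x ∈ P) : autMap a x ∈ P := by
  rw [autMap_apply a (hPR hx)]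
  exact (ha ⟨x, hPR hx⟩).1 hx

variable [Finite S] [Fact p.Prime]

/-- An automorphism of order prime to `p` which is trivial modulo `T` on `R` moves `m` trivially modulo `T`
as soon as its effect lies in `(M ∩ T) R`. -/
theorem mem_of_periodic (hS : IsPGroup p S) (hT : F.StronglyClosed T) {R M : Subgroup Ω} (hMS : M ≤ S)
    (hRM : R ≤ M) {G : MulAut M} (hG : G ∈ F.autGroup M) (hco : (orderOf G).Coprime p)
    (hGR : ∀ x ∈ R, autMap G x ∈ R) (hmod : ∀ x ∈ R, x⁻¹ * autMap G x ∈ T) {m : Ω} (hm : m ∈ M)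
    (hz : m⁻¹ * autMap G m ∈ (M ⊓ T) ⊔ R) : m⁻¹ * autMap G m ∈ T := by
  haveI : Finite T := finite_of_le hT.1
  haveI := finite_of_le hMS
  have hGm : IsMap F M (autMap G) := (mem_autGroup_iff hMS).1 hG
  have hX : (M ⊓ T) ⊔ R ≤ M := sup_le inf_le_left hRM
  have hnT : M ≤ Subgroup.normalizer (T : Set Ω) := fun s hs => mem_normalizer_of_maps fun t ht =>
    conj_mem_closed hT (hMS hs) ht
  have hGT : ∀ t ∈ M ⊓ T, autMap G t ∈ M ⊓ T := fun t ht => ⟨autMap_mem G ht.1,
    (stronglyClosed_iff.1 hT).2 (M ⊓ T) _ inf_le_right (hGm.mono inf_le_left) t ht⟩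
  have hXmod : ∀ x ∈ (M ⊓ T) ⊔ R, x⁻¹ * autMap G x ∈ T := fun x hx =>
    mod_of_sup (hGm.mono hX) (hX.trans hnT)
      (fun t ht => T.mul_mem (T.inv_mem ht.2) (hGT t ht).2) hmod hx
  set z := m⁻¹ * autMap G m with hzdef
  have hzM : z ∈ M := hX hz
  have key : ∀ j : ℕ, ∃ t ∈ M ⊓ T, autMap (G ^ j) m = m * z ^ j * t := by
    intro j
    induction j with
    | zero => exact ⟨1, one_mem _, by rw [pow_zero, FusionSys.autMap_one hm, pow_zero, mul_one, mul_one]⟩
    | succ j ih =>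
      obtain ⟨t, ht, he⟩ := ih
      have hzj : z ^ j ∈ (M ⊓ T) ⊔ R := Subgroup.pow_mem _ hz j
      have hd : (z ^ j)⁻¹ * autMap G (z ^ j) ∈ M ⊓ T :=
        ⟨M.mul_mem (M.inv_mem (hX hzj)) (autMap_mem G (hX hzj)), hXmod _ hzj⟩
      refine ⟨(z ^ j)⁻¹ * autMap G (z ^ j) * autMap G t, mul_mem hd (hGT t ht), ?_⟩
      rw [pow_succ', autMap_mul _ _ hm, he, hGm.map_mul (M.mul_mem hm (hX hzj)) ht.1,
        hGm.map_mul hm (hX hzj), show autMap G m = m * z by rw [hzdef, mul_inv_cancel_left], pow_succ']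
      group
  obtain ⟨t, ht, he⟩ := key (orderOf G)
  rw [pow_orderOf_eq_one, FusionSys.autMap_one hm, mul_assoc] at he
  refine mem_of_pow_mem hS (hMS hzM) hco ?_
  have h1 : z ^ orderOf G * t = 1 := mul_left_cancel (he.symm.trans (mul_one m).symm)
  rw [eq_inv_of_mul_eq_one_left h1]
  exact T.inv_mem ht.2

variable (hS : IsPGroup p S) (hE : E.IsNormalIn F p)
include hS hE

/-- `hasExt_all` for fully centralized subgroups. -/
theorem hasExt_centralized {R : Subgroup Ω} (hR : E.IsCentric R) (hRc : F.IsFullyCentralized R)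
    {α : MulAut R} (hα : α ∈ E.autGroup R) : HasExt F R α := by
  have hF := hE.1.2.1
  haveI := finite_of_le hRc.1
  obtain ⟨R', hR', hR'n⟩ := exists_isFullyNormalized F hRc.1
  obtain ⟨g, hg, hgi, -⟩ := exists_map_to_fullyNormalized hS hF hR'n hR'
  have hRN : R ≤ normalizerIn S R := le_normalizerIn_self hRc.1
  have hCN : centralizerIn S R ≤ normalizerIn S R := fun c hc => centralizerIn_le_normalizerIn hc
  have hP : IsMap F (R ⊔ centralizerIn S R) g := hg.mono (sup_le hRN hCN)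
  obtain ⟨G, hG, hG1, hG2⟩ := hasExt_all hS hF hE (isCentric_target hE.1.2.2 hR hgi) hR'n
    (autEquiv_mem hE.1.2.2 hR.1 hgi hα)
  haveI : Finite (centralizerIn S R' : Subgroup Ω) := finite_of_le centralizerIn_le
  have hsurj : ∀ {y : Ω}, y ∈ centralizerIn S R' → ∃ c ∈ centralizerIn S R, g c = y := fun hy =>
    exists_preimage_of_card hg hCN
      (fun c hc => hgi.mem_centralizerIn_of_extends hg hRN (fun _ _ => rfl) (hCN hc) hc)
      (hRc.2 _ hR') hy
  obtain ⟨g', hg', hg'e⟩ := hP.exists_inv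
  have hin : ∀ x ∈ R ⊔ centralizerIn S R, g x ∈ R' ⊔ centralizerIn S R' := fun x hx =>
    hP.mapsTo_sup (fun r hr => Subgroup.mem_sup_left (hgi.mem hr))
      (fun c hc => Subgroup.mem_sup_right
        (hgi.mem_centralizerIn_of_extends hg hRN (fun _ _ => rfl) (hCN hc) hc)) hx
  have hout : R' ⊔ centralizerIn S R' ≤ imgSub g (R ⊔ centralizerIn S R) := sup_le (fun y hy => by
      obtain ⟨r, hr, rfl⟩ := hgi.exists_preimage hy
      exact hP.mem_imgSub.2 ⟨r, Subgroup.mem_sup_left hr, rfl⟩) fun y hy => by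
      obtain ⟨c, hc, rfl⟩ := hsurj hy
      exact hP.mem_imgSub.2 ⟨c, Subgroup.mem_sup_right hc, rfl⟩
  refine ⟨g' ∘ (G ∘ g), (hP.comp hG hin).comp hg' (fun x hx => hout
    (HasExt.mapsTo hG hG1 hG2 (hin x hx))), fun r hr => ?_, fun c hc => ?_⟩
  · rw [Function.comp_apply, Function.comp_apply, hG1 _ (hgi.mem hr),
      hgi.autMap_autEquiv α hr, hg'e _ (Subgroup.mem_sup_left (autMap_mem α hr))]
  · have hgc := hgi.mem_centralizerIn_of_extends hg hRN (fun _ _ => rfl) (hCN hc) hc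
    obtain ⟨r, hr, hre⟩ := hgi.exists_preimage (hG2 _ hgc)
    have hcr : c * r ∈ R ⊔ centralizerIn S R :=
      mul_mem (Subgroup.mem_sup_right hc) (Subgroup.mem_sup_left hr)
    have h1 : G (g c) = g (c * r) := by
      rw [hP.map_mul (Subgroup.mem_sup_right hc) (Subgroup.mem_sup_left hr), hre, mul_inv_cancel_left]
    rw [Function.comp_apply, Function.comp_apply, h1, hg'e _ hcr, inv_mul_cancel_left]
    exact hr

/-- The extension to `Q C_S(Q)`. -/
theorem exists_mod_cent {Q : Subgroup Ω} (hQT : Q ≤ T) (hQn : F.IsFullyNormalized Q) {x : MulAut Q}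
    (hx : x ∈ E.autGroup Q) (hco : (orderOf x).Coprime p) :
    ∃ γ ∈ F.autGroup (Q ⊔ centralizerIn S Q), (∀ q ∈ Q, autMap γ q = autMap x q) ∧
      ∀ m ∈ Q ⊔ centralizerIn S Q, m⁻¹ * autMap γ m ∈ T := by
  have hF := hE.1.2.1
  have hT := hE.1.2.2.2.1
  have hsub := hE.1.2.2.1
  haveI : Finite T := finite_of_le hT.1
  haveI := finite_of_le hQn.1
  have hTp : IsPGroup p T := hS.to_le hT.1
  set K0 := centralizerIn T Q with hK0
  set R := Q ⊔ K0 with hRdef
  have hQR : Q ≤ R := le_sup_left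
  have hRT : R ≤ T := sup_le hQT centralizerIn_le
  have hRS : R ≤ S := hRT.trans hT.1
  haveI := finite_of_le hRS
  -- every conjugate of `R` is carried back
  have back : ∀ R', F.IsConj R R' → ∃ g, IsMap F (R' ⊔ centralizerIn S R') g ∧ IsIso F R' R g := by
    intro R' hR'
    obtain ⟨f, hf⟩ := isConj_iff.1 hR'
    have hfQ := (hf.isMap.mono hQR).isIso
    set Q' := imgSub f Q with hQ'
    obtain ⟨g, hg, hgi, -⟩ := exists_map_to_fullyNormalized hS hF hQn (isConj_symm hfQ.isConj)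
    have hQR' : Q' ≤ R' := fun y hy => by
      obtain ⟨q, hq, rfl⟩ := hfQ.exists_preimage hy
      exact hf.mem (hQR hq)
    have hK0' : ∀ k ∈ K0, f k ∈ centralizerIn S Q' := fun k hk => by
      refine FusionSys.mem_centralizerIn.2 ⟨hf.isMap.mem_S (Subgroup.mem_sup_right hk), fun y hy => ?_⟩
      obtain ⟨q, hq, rfl⟩ := hfQ.exists_preimage hy
      rw [← hf.isMap.map_mul (hQR hq) (Subgroup.mem_sup_right hk),
        ← hf.isMap.map_mul (Subgroup.mem_sup_right hk) (hQR hq),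
        (FusionSys.mem_centralizerIn.1 hk).2 q hq]
    have hR'N : R' ≤ normalizerIn S Q' := fun y hy => by
      obtain ⟨r, hr, rfl⟩ := hf.exists_preimage hy
      exact hf.isMap.mapsTo_sup (fun q hq => le_normalizerIn_self hfQ.target_le (hfQ.mem hq))
        (fun k hk => centralizerIn_le_normalizerIn (hK0' k hk)) hr
    have hCN : centralizerIn S R' ≤ normalizerIn S Q' := fun c hc => centralizerIn_le_normalizerIn
      (FusionSys.mem_centralizerIn.2 ⟨centralizerIn_le hc,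
        fun y hy => (FusionSys.mem_centralizerIn.1 hc).2 y (hQR' hy)⟩)
    refine ⟨g, hg.mono (sup_le hR'N hCN), ?_⟩
    have hR'T : R' ≤ T := target_le_of_closed hT hRT hf
    haveI := finite_of_le hf.target_le
    have hmem : ∀ y ∈ R', g y ∈ R := fun y hy => by
      obtain ⟨r, hr, rfl⟩ := hf.exists_preimage hy
      refine (hf.isMap.comp (hg.mono hR'N) fun x hx => hf.mem hx).mapsTo_sup (fun q hq => ?_)
        (fun k hk => ?_) hr
      · exact Subgroup.mem_sup_left (hgi.mem (hfQ.mem hq))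
      · have hk' := hK0' k hk
        refine Subgroup.mem_sup_right (FusionSys.mem_centralizerIn.2
          ⟨(stronglyClosed_iff.1 hT).2 R' g hR'T (hg.mono hR'N) _ (hf.mem (Subgroup.mem_sup_right hk)),
            (FusionSys.mem_centralizerIn.1 (hgi.mem_centralizerIn_of_extends hg
              (le_normalizerIn_self hfQ.target_le) (fun _ _ => rfl)
              (centralizerIn_le_normalizerIn hk') hk')).2⟩)
    have hm := hg.mono hR'N
    refine ⟨hm, Set.ext fun z => ⟨?_, fun hz => ?_⟩⟩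
    · rintro ⟨y, hy, rfl⟩
      exact hmem y hy
    · obtain ⟨y, hy, rfl⟩ := exists_preimage_of_card hm le_rfl hmem hf.card_eq.le hz
      exact ⟨y, hy, rfl⟩
  have hRctr : Ctr F T R := fun R' hR' c hc => by
    obtain ⟨g, hg, hgi⟩ := back R' hR'
    obtain ⟨hcT, hcc⟩ := FusionSys.mem_centralizerIn.1 hc
    have hcS : c ∈ centralizerIn S R' := FusionSys.mem_centralizerIn.2 ⟨hT.1 hcT, hcc⟩
    have hcX : c ∈ R' ⊔ centralizerIn S R' := Subgroup.mem_sup_right hcS
    obtain ⟨f, hf⟩ := isConj_iff.1 hR'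
    have hgc : g c ∈ R := Subgroup.mem_sup_right (FusionSys.mem_centralizerIn.2
      ⟨(stronglyClosed_iff.1 hT).2 (Subgroup.zpowers c) g (Subgroup.zpowers_le.2 hcT)
          (hg.mono (Subgroup.zpowers_le.2 hcX)) c (Subgroup.mem_zpowers c),
        fun q hq => (FusionSys.mem_centralizerIn.1
          (hgi.mem_centralizerIn_of_extends hg le_sup_left (fun _ _ => rfl) hcX hcS)).2 q (hQR hq)⟩)
    obtain ⟨r, hr, hre⟩ := hgi.exists_preimage hgc
    exact hg.injOn (Subgroup.mem_sup_left hr) hcX hre ▸ hr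
  have hRc : F.IsFullyCentralized R := ⟨hRS, fun R' hR' => by
    obtain ⟨g, hg, hgi⟩ := back R' hR'
    haveI : Finite (centralizerIn S R : Subgroup Ω) := finite_of_le centralizerIn_le
    exact card_le_of_mapsTo hg le_sup_right fun c hc =>
      hgi.mem_centralizerIn_of_extends hg le_sup_left (fun _ _ => rfl) (Subgroup.mem_sup_right hc) hc⟩
  have hRE : E.IsCentric R := ⟨hRT, fun R' hR' => by
    obtain ⟨u, hu⟩ := isConj_iff.1 hR'
    exact hRctr R' (isIso_of_sub hsub hu).isConj⟩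
  -- extend inside `E`
  have hQE := isFullyNormalized_sub hS hF hsub hT hQT hQn
  have hxi : IsIso E Q Q (autMap x) := isIso_autMap hQT hx
  obtain ⟨d, hd, hde⟩ := receptive_extend (receptive_of_isFullyNormalized hTp hE.1.1 hQE) hxi
    (N := K0) fun y hy => hxi.isMap.inExt_of_centralizes hy
  replace hd : IsMap E R d := hd.mono (le_of_eq (sup_comm _ _))
  obtain ⟨δ, hδ, hδe⟩ := (isIso_of_mapsTo hd fun r hr => hd.mapsTo_sup
    (fun q hq => Subgroup.mem_sup_left ((hde q hq).symm ▸ autMap_mem x hq))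
    (fun k hk => Subgroup.mem_sup_right
      ((IsIso.congr hxi hde).mem_centralizerIn_of_extends hd le_sup_left (fun _ _ => rfl)
        (Subgroup.mem_sup_right hk) hk)) hr).exists_aut
  obtain ⟨G0, hG0, hG01, hG02⟩ := hasExt_centralized hS hE hRE hRc hδ
  set R1 := R ⊔ centralizerIn S R with hR1
  have hR1S : R1 ≤ S := sup_le hRS centralizerIn_le
  haveI := finite_of_le hR1S
  haveI := finite_mulAut_of_le hR1S
  obtain ⟨γ, hγ, hγe⟩ := (isIso_of_mapsTo hG0 fun y hy => HasExt.mapsTo hG0 hG01 hG02 hy).exists_aut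
  set C := centralizerIn S Q with hC
  set M := Q ⊔ C with hM
  have hRR1 : R ≤ R1 := le_sup_left
  have hQR1 : Q ≤ R1 := hQR.trans hRR1
  have hK0C : K0 ≤ C := fun k hk => FusionSys.mem_centralizerIn.2
    ⟨hT.1 (FusionSys.mem_centralizerIn.1 hk).1, (FusionSys.mem_centralizerIn.1 hk).2⟩
  have hCRC : centralizerIn S R ≤ C := fun c hc => FusionSys.mem_centralizerIn.2
    ⟨centralizerIn_le hc, fun q hq => (FusionSys.mem_centralizerIn.1 hc).2 q (hQR hq)⟩
  have hR1M : R1 ≤ M := sup_le (sup_le le_sup_left (hK0C.trans le_sup_right)) (hCRC.trans le_sup_right)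
  have hMS : M ≤ S := sup_le hQn.1 centralizerIn_le
  have hMQ : M ≤ Subgroup.normalizer (Q : Set Ω) := le_normalizer_self_sup
  have hMK0 : ∀ m ∈ M, ∀ k ∈ K0, m * k * m⁻¹ ∈ K0 := fun m hm k hk => by
    obtain ⟨hkT, hkc⟩ := FusionSys.mem_centralizerIn.1 hk
    refine FusionSys.mem_centralizerIn.2 ⟨conj_mem_closed hT (hMS hm) hkT, fun q hq => ?_⟩
    have hq' : m⁻¹ * q * m ∈ Q := (Subgroup.mem_normalizer_iff''.1 (hMQ hm) q).1 hq
    calc q * (m * k * m⁻¹) = m * (m⁻¹ * q * m * k) * m⁻¹ := by group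
      _ = m * (k * (m⁻¹ * q * m)) * m⁻¹ := by rw [hkc _ hq']
      _ = _ := by group
  have hMR : M ≤ Subgroup.normalizer (R : Set Ω) := fun m hm => mem_normalizer_of_maps fun r hr => by
    have := (isMap_conj F hRS (hMS hm)).mapsTo_sup (C := R)
      (fun q hq => Subgroup.mem_sup_left (by
        rw [conjMap_apply]; exact (Subgroup.mem_normalizer_iff.1 (hMQ hm) q).1 hq))
      (fun k hk => Subgroup.mem_sup_right (by rw [conjMap_apply]; exact hMK0 m hm k hk)) hr
    rwa [conjMap_apply] at this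
  have hMR1 : M ≤ Subgroup.normalizer (R1 : Set Ω) := fun m hm => mem_normalizer_of_maps fun r hr => by
    have := (isMap_conj F hR1S (hMS hm)).mapsTo_sup (C := R1)
      (fun q hq => Subgroup.mem_sup_left (by
        rw [conjMap_apply]; exact (Subgroup.mem_normalizer_iff.1 (hMR hm) q).1 hq))
      (fun k hk => Subgroup.mem_sup_right (by
        rw [conjMap_apply]
        exact (Subgroup.mem_normalizer_iff.1 (le_normalizer_centralizerIn (hMS hm) (hMR hm)) k).1 hk)) hr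
    rwa [conjMap_apply] at this
  set K : Subgroup (MulAut R1) := F.autGroup R1 ⊓ setStab R1 Q ⊓ modGroup R1 R ⊓
    ((E.autGroup R).comap (stabRes hRR1)).map (setStab R1 R).subtype with hK
  have hγR : γ ∈ setStab R1 R := mem_setStab_of_mapsTo hRR1 fun r hr => by
    rw [hγe r (hRR1 hr), hG01 r hr]; exact autMap_mem δ hr
  have hγδ : ∀ r ∈ R, autMap γ r = autMap δ r := fun r hr => by rw [hγe r (hRR1 hr), hG01 r hr]
  have hγQ : ∀ q ∈ Q, autMap γ q = autMap x q := fun q hq => by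
    rw [hγδ q (hQR hq), hδe q (hQR hq), hde q hq]
  have hγK : γ ∈ K := by
    refine ⟨⟨⟨hγ, mem_setStab_of_mapsTo hQR1 fun q hq => by
      rw [hγQ q hq]; exact autMap_mem x hq⟩, fun y hy => ?_⟩, ⟨γ, hγR⟩, ?_, rfl⟩
    · rw [hγe y hy]; exact HasExt.mod hG0 hG01 hG02 hy
    · show stabRes hRR1 ⟨γ, hγR⟩ ∈ E.autGroup R
      rwa [show stabRes hRR1 ⟨γ, hγR⟩ = δ from aut_ext fun r hr => by
        rw [autMap_stabRes hRR1 _ hr]; exact hγδ r hr]
  have hKM : ∀ c ∈ autInducedBy M R1, ∀ k ∈ K, c * k * c⁻¹ ∈ K := by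
    rintro c hc k ⟨⟨⟨hkF, hkQ⟩, hkm⟩, ⟨⟨k', hk'⟩, hkE, hke⟩⟩
    obtain rfl : k' = k := hke
    obtain ⟨m, hm, hmn, rfl⟩ := mem_autInducedBy.1 hc
    have hcF : conjAut hmn ∈ F.autGroup R1 := conjAut_mem_autGroup F hR1S ⟨hMS hm, hmn⟩
    have hcQ : conjAut hmn ∈ setStab R1 Q := mem_setStab_of_mapsTo hQR1 fun q hq => by
      rw [autMap_conjAut hmn (hQR1 hq), conjMap_apply]
      exact (Subgroup.mem_normalizer_iff.1 (hMQ hm) q).1 hq
    have hcR : conjAut hmn ∈ setStab R1 R := mem_setStab_of_mapsTo hRR1 fun q hq => by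
      rw [autMap_conjAut hmn (hRR1 hq), conjMap_apply]
      exact (Subgroup.mem_normalizer_iff.1 (hMR hm) q).1 hq
    refine ⟨⟨⟨Subgroup.mul_mem _ (Subgroup.mul_mem _ hcF hkF) (Subgroup.inv_mem _ hcF),
      Subgroup.mul_mem _ (Subgroup.mul_mem _ hcQ hkQ) (Subgroup.inv_mem _ hcQ)⟩,
      modGroup_conj hR1S hcF (fun y hy hyR => setStab_mapsTo hRR1 hcR hyR) hkm⟩,
      ⟨conjAut hmn, hcR⟩ * ⟨k', hk'⟩ * ⟨conjAut hmn, hcR⟩⁻¹, ?_, rfl⟩
    show stabRes hRR1 _ ∈ E.autGroup R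
    rw [map_mul, map_mul, map_inv]
    refine WeakResidual.conj_mem_autGroup hE.1.2.2 hRT ?_ hkE
    rw [show stabRes hRR1 ⟨conjAut hmn, hcR⟩ = conjAut (hMR hm) from aut_ext fun r hr => by
      rw [autMap_stabRes hRR1 _ hr, autMap_conjAut _ (hRR1 hr), autMap_conjAut _ hr]]
    exact conjAut_mem_autGroup F hRS ⟨hMS hm, hMR hm⟩
  have hQc := isFullyCentralized_of_isFullyNormalized hS hF hQn
  have hgM : ∀ y ∈ autInducedBy M Q, x * y * x⁻¹ ∈ autInducedBy M Q := fun y hy => by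
    obtain ⟨m, hm, hmn, rfl⟩ := mem_autInducedBy.1 hy
    have hin : ∀ m ∈ M, ∃ hn : m ∈ Subgroup.normalizer (Q : Set Ω), conjAut hn ∈ Inn Q := by
      intro m hm
      have hmem : m ∈ nSub S Q (Inn Q) := (sup_le (le_nSub hQn.1 le_rfl) fun c hc => mem_nSub.2
        ⟨centralizerIn_le_normalizerIn hc, by
          rw [show conjAut (centralizerIn_le_normalizerIn hc).2 = (1 : MulAut Q) from
            aut_ext fun q hq => by
              rw [autMap_conjAut _ hq, conjMap_apply, FusionSys.autMap_one hq,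
                ← (FusionSys.mem_centralizerIn.1 hc).2 q hq, mul_inv_cancel_right]]
          exact one_mem _⟩ : M ≤ nSub S Q (Inn Q)) hm
      obtain ⟨h, h'⟩ := mem_nSub.1 hmem
      exact ⟨h.2, h'⟩
    obtain ⟨_, hmI⟩ := hin m hm
    have hI : x * conjAut hmn * x⁻¹ ∈ Inn Q := inn_conj (le_refl (Inn Q)) x hmI
    rw [inn_eq_autInducedBy_self] at hI
    exact autInducedBy_mono le_sup_left hI
  obtain ⟨G, hG, hGco, hGx, k, hk, hGk⟩ := exists_frame hS hF hQc hQR1 hR1M hR1M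
    le_sup_right hMS hMQ hMR1
    (receptive_of_isFullyCentralized hS hF (isFullyCentralized_of_centric_le (E := F) (le_refl' F)
      (isCentric_sup_centralizer hRc)))
    (inf_le_left.trans (inf_le_left.trans inf_le_left)) (inf_le_left.trans (inf_le_left.trans inf_le_right)) hKM hγK hγQ hco hgM
  obtain ⟨⟨⟨hkF, -⟩, hkm⟩, ⟨⟨k', hk'⟩, hkE, hke⟩⟩ := hk
  obtain rfl : k' = k := hke
  refine ⟨G, hG, hGx, fun m hm => ?_⟩
  have hGm : IsMap F M (autMap G) := (mem_autGroup_iff hMS).1 hG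
  have hGRmem : ∀ r ∈ R, autMap G r ∈ R := fun r hr => by
    rw [hGk r (hRR1 hr)]; exact setStab_mapsTo hRR1 hk' hr
  refine mod_of_sup (A := Q) (B := C) hGm (fun s hs => mem_normalizer_of_maps fun t ht =>
    conj_mem_closed hT (hMS hs) ht) (fun q hq => T.mul_mem (T.inv_mem (hQT hq))
      (hQT ((hGx q hq).symm ▸ autMap_mem x hq))) (fun c hc => ?_) hm
  have hcM : c ∈ M := Subgroup.mem_sup_right hc
  have hGc : autMap G c ∈ C :=
    (IsIso.congr (isIso_of_sub hsub hxi) hGx).mem_centralizerIn_of_extends hGm le_sup_left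
      (fun _ _ => rfl) hcM hc
  set z := c⁻¹ * autMap G c with hz
  have hzC : z ∈ C := mul_mem (inv_mem hc) hGc
  have hzM : z ∈ M := Subgroup.mem_sup_right hzC
  -- the conjugation by `z` lies in `E`
  set e := stabRes hRR1 ⟨k', hk'⟩ with he
  have hee : ∀ r ∈ R, autMap e r = autMap G r := fun r hr => by
    rw [he, autMap_stabRes hRR1 _ hr, hGk r (hRR1 hr)]
  have hcF : conjAut (hMR hcM) ∈ F.autGroup R := conjAut_mem_autGroup F hRS ⟨hMS hcM, hMR hcM⟩
  have hcE : (conjAut (hMR hcM))⁻¹ * e * (conjAut (hMR hcM))⁻¹⁻¹ * e⁻¹ ∈ E.autGroup R :=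
    mul_mem (WeakResidual.conj_mem_autGroup hE.1.2.2 hRT (inv_mem hcF) hkE) (inv_mem hkE)
  have hzE : IsMap E R (conjMap z) := by
    refine ((mem_autGroup_iff hRT).1 hcE).congr fun r hr => ?_
    obtain ⟨s, hs, rfl⟩ : ∃ s ∈ R, autMap e s = r :=
      ⟨_, autMap_mem _ hr, autMap_inv_apply e hr⟩
    have hes := autMap_mem e hs
    rw [inv_inv, autMap_mul _ _ hes, S5114.inv_autMap_apply e hs, autMap_mul _ _ hs,
      autMap_mul _ _ (autMap_mem _ hs), autMap_conjAut _ hs, conjMap_apply, conjMap_apply]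
    have hcs : c * s * c⁻¹ ∈ R := (Subgroup.mem_normalizer_iff.1 (hMR hcM) s).1 hs
    rw [hee _ hcs, hee s hs, hGm.map_conj hcM (hR1M (hRR1 hs))]
    have hy : autMap G c * autMap G s * (autMap G c)⁻¹ ∈ R :=
      hGm.map_conj hcM (hR1M (hRR1 hs)) ▸ hGRmem _ hcs
    have h2 := (Subgroup.mem_normalizer_iff''.1 (hMR hcM) _).1 hy
    rw [show autMap G c * autMap G s * (autMap G c)⁻¹ =
      autMap (conjAut (hMR hcM)) (c⁻¹ * (autMap G c * autMap G s * (autMap G c)⁻¹) * c) by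
        rw [autMap_conjAut _ h2, conjMap_apply]; group, S5114.inv_autMap_apply _ h2, hz]
    group
  obtain ⟨n, hn⟩ := IsPGroup.iff_card.1 hS
  have hzS : z ∈ S := centralizerIn_le hzC
  have hzp : z ^ p ^ n = 1 := by
    rw [← hn]
    exact congrArg Subtype.val (pow_card_eq_one' (x := (⟨z, hzS⟩ : S)))
  obtain ⟨w, hw, hwe⟩ := exists_conj_of_fix hTp hE.1.1
    (isFullyCentralized_of_isFullyNormalized hTp hE.1.1 hQE) hzE
    (fun q hq => by rw [conjMap_apply, ← (FusionSys.mem_centralizerIn.1 hzC).2 q hq, mul_inv_cancel_right])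
    ⟨n, fun y _ => by
      have key : ∀ j : ℕ, ∀ y : Ω, (conjMap z)^[j] y = z ^ j * y * (z ^ j)⁻¹ := by
        intro j
        induction j with
        | zero => intro y; simp
        | succ j ih => intro y; rw [Function.iterate_succ_apply, ih, conjMap_apply, pow_succ]; group
      rw [key, hzp]; group⟩
  have hwz : w⁻¹ * z ∈ centralizerIn S R := FusionSys.mem_centralizerIn.2
    ⟨S.mul_mem (S.inv_mem (hT.1 (FusionSys.mem_centralizerIn.1 hw).1)) hzS, fun r hr => by
      have h := hwe r hr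
      rw [conjMap_apply, conjMap_apply] at h
      calc r * (w⁻¹ * z) = w⁻¹ * (w * r * w⁻¹) * z := by group
        _ = _ := by rw [← h]; group⟩
  refine mem_of_periodic hS hT hMS hR1M hG hGco (fun y hy => (hGk y hy).symm ▸ autMap_mem _ hy)
    (fun y hy => by rw [hGk y hy]; exact hRT (hkm y hy)) hcM (Subgroup.mem_sup_right ?_)
  have := mul_mem (Subgroup.mem_sup_left (T := centralizerIn S R)
    (Subgroup.mem_sup_right (S := Q) hw)) (Subgroup.mem_sup_right (S := R) hwz)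
  rwa [mul_inv_cancel_left] at this

/-- The extension to the preimage of `Y`. -/
theorem exists_mod_ext {Q : Subgroup Ω} (hQT : Q ≤ T) (hQn : F.IsFullyNormalized Q)
    {Y : Subgroup (MulAut Q)} (hYI : Inn Q ≤ Y) (hYT : Y ≤ autInducedBy T Q) {x : MulAut Q}
    (hx : x ∈ E.autGroup Q) (hco : (orderOf x).Coprime p) (hxY : ∀ y ∈ Y, x * y * x⁻¹ ∈ Y) :
    ∃ G ∈ F.autGroup (nSub S Q Y), (∀ q ∈ Q, autMap G q = autMap x q) ∧
      ∀ m ∈ nSub S Q Y, m⁻¹ * autMap G m ∈ T := by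
  have hF := hE.1.2.1
  have hT := hE.1.2.2.2.1
  haveI : Finite T := finite_of_le hT.1
  haveI := finite_of_le hQn.1
  set R := Q ⊔ centralizerIn S Q with hR
  obtain ⟨γ, hγ, hγQ, hγm⟩ : ∃ γ ∈ F.autGroup R, (∀ q ∈ Q, autMap γ q = autMap x q) ∧
      ∀ m ∈ R, m⁻¹ * autMap γ m ∈ T := exists_mod_cent hS hE hQT hQn hx hco
  have hQR : Q ≤ R := le_sup_left
  have hRS : R ≤ S := sup_le hQn.1 centralizerIn_le
  haveI := finite_of_le hRS
  haveI := finite_mulAut_of_le hRS
  set M := nSub S Q Y with hM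
  have hMS : M ≤ S := nSub_le
  have hMQ : M ≤ Subgroup.normalizer (Q : Set Ω) := fun m hm => (mem_nSub.1 hm).1.2
  have hCM : centralizerIn S Q ≤ M := fun c hc => mem_nSub.2 ⟨centralizerIn_le_normalizerIn hc, by
    rw [show conjAut (centralizerIn_le_normalizerIn hc).2 = (1 : MulAut Q) from aut_ext fun q hq => by
      rw [autMap_conjAut _ hq, conjMap_apply, FusionSys.autMap_one hq,
        ← (FusionSys.mem_centralizerIn.1 hc).2 q hq, mul_inv_cancel_right]]
    exact one_mem _⟩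
  have hRM : R ≤ M := sup_le (le_nSub hQn.1 hYI) hCM
  have hMR : M ≤ Subgroup.normalizer (R : Set Ω) := fun m hm => mem_normalizer_of_maps fun r hr => by
    have := (isMap_conj F hRS (hMS hm)).mapsTo_sup (C := R)
      (fun q hq => Subgroup.mem_sup_left (by
        rw [conjMap_apply]; exact (Subgroup.mem_normalizer_iff.1 (hMQ hm) q).1 hq))
      (fun k hk => Subgroup.mem_sup_right (by
        rw [conjMap_apply]
        exact (Subgroup.mem_normalizer_iff.1 (le_normalizer_centralizerIn (hMS hm) (hMQ hm)) k).1 hk)) hr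
    rwa [conjMap_apply] at this
  set K : Subgroup (MulAut R) := F.autGroup R ⊓ setStab R Q ⊓ modGroup R T with hK
  have hγK : γ ∈ K := ⟨⟨hγ, mem_setStab_of_mapsTo hQR fun q hq => by
    rw [hγQ q hq]; exact autMap_mem x hq⟩, hγm⟩
  have hKM : ∀ c ∈ autInducedBy M R, ∀ k ∈ K, c * k * c⁻¹ ∈ K := by
    rintro c hc k ⟨⟨hkF, hkQ⟩, hkm⟩
    obtain ⟨m, hm, hmn, rfl⟩ := mem_autInducedBy.1 hc
    have hcF : conjAut hmn ∈ F.autGroup R := conjAut_mem_autGroup F hRS ⟨hMS hm, hmn⟩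
    have hcQ : conjAut hmn ∈ setStab R Q := mem_setStab_of_mapsTo hQR fun q hq => by
      rw [autMap_conjAut hmn (hQR hq), conjMap_apply]
      exact (Subgroup.mem_normalizer_iff.1 (hMQ hm) q).1 hq
    refine ⟨⟨Subgroup.mul_mem _ (Subgroup.mul_mem _ hcF hkF) (Subgroup.inv_mem _ hcF),
      Subgroup.mul_mem _ (Subgroup.mul_mem _ hcQ hkQ) (Subgroup.inv_mem _ hcQ)⟩,
      modGroup_conj hRS hcF (fun y hy hyT => ?_) hkm⟩
    rw [autMap_conjAut hmn hy, conjMap_apply]
    exact conj_mem_closed hT (hMS hm) hyT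
  have hQc := isFullyCentralized_of_isFullyNormalized hS hF hQn
  have hgM : ∀ y ∈ autInducedBy M Q, x * y * x⁻¹ ∈ autInducedBy M Q := fun y hy => by
    obtain ⟨m, hm, hmn, rfl⟩ := mem_autInducedBy.1 hy
    obtain ⟨t, ht, htn, hte⟩ := mem_autInducedBy.1 (hYT (hxY _ (mem_nSub.1 hm).2))
    refine mem_autInducedBy.2 ⟨t, mem_nSub.2 ⟨⟨hT.1 ht, htn⟩, hte ▸ hxY _ (mem_nSub.1 hm).2⟩, htn, hte⟩
  obtain ⟨G, hG, hGco, hGx, k, hk, hGk⟩ := exists_frame hS hF hQc hQR hRM le_rfl hCM hMS hMQ hMR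
    (receptive_of_isFullyCentralized hS hF (isFullyCentralized_of_centric_le (E := F) (le_refl' F)
      (isCentric_sup_centralizer hQc)))
    (inf_le_left.trans inf_le_left) (inf_le_left.trans inf_le_right) hKM hγK hγQ hco hgM
  refine ⟨G, hG, hGx, fun m hm => ?_⟩
  have hGm : IsMap F M (autMap G) := (mem_autGroup_iff hMS).1 hG
  have hGmM := autMap_mem G hm
  refine mem_of_periodic hS hT hMS hRM hG hGco (fun y hy => (hGk y hy).symm ▸ autMap_mem _ hy)
    (fun y hy => by rw [hGk y hy]; exact hk.2 y hy) hm ?_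
  have hzM : m⁻¹ * autMap G m ∈ M := M.mul_mem (M.inv_mem hm) hGmM
  obtain ⟨hzN, hzY⟩ := mem_nSub.1 hzM
  obtain ⟨t, ht, htn, hte⟩ := mem_autInducedBy.1 (hYT hzY)
  have hc : t⁻¹ * (m⁻¹ * autMap G m) ∈ centralizerIn S Q := by
    refine FusionSys.mem_centralizerIn.2 ⟨S.mul_mem (S.inv_mem (hT.1 ht)) hzN.1, fun q hq => ?_⟩
    have h := congrArg (fun a => autMap a q) hte
    rw [autMap_conjAut _ hq, autMap_conjAut htn hq, conjMap_apply, conjMap_apply] at h
    calc q * (t⁻¹ * (m⁻¹ * autMap G m)) = t⁻¹ * (t * q * t⁻¹) * (m⁻¹ * autMap G m) := by group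
      _ = _ := by rw [← h]; group
  have htM : t ∈ M := mem_nSub.2 ⟨⟨hT.1 ht, htn⟩, hte ▸ hzY⟩
  have h3 := Subgroup.mul_mem_sup (Subgroup.mem_inf.2 ⟨htM, ht⟩ : t ∈ M ⊓ T)
    (Subgroup.mem_sup_right (S := Q) hc)
  rwa [mul_inv_cancel_left] at h3

end Cfsg.Agent.H89.Gen
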