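import Cfsg.Agent.H89.Gen.Largest
import Cfsg.Agent.H89.Lift.Main

/-!
Normal subsystems over the whole group of a quasisimple system; the layer.
-/

set_option autoImplicit false
set_option linter.style.haveILetI false
set_option linter.unusedSectionVars false

namespace Cfsg.Agent.H89.Gen

open Cfsg Cfsg.FusionSystem Cfsg.Agent.FusionSys Cfsg.Agent.H91.CentFocal
open Cfsg.Agent.H89.Lift (th tw tw_apply mem_pre mem_img th_mem_img)
open Cfsg.Agent.H89 (KerEq)
open Cfsg.FusionSystem (centralizerIn normalizerIn)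

variable {Ω : Type*} [Group Ω] {S : Subgroup Ω} [Finite S] {F : FusionSystem S} {p : ℕ} [Fact p.Prime]

/-- A weakly normal subsystem over the whole group is normal. -/
theorem isNormalIn_top {D : FusionSystem S} (hF : F.IsSaturated p) (hDs : D.IsSaturated p)
    (hsub : D.IsSubsystemOf F)
    (htw : ∀ a ∈ F.autGroup S, ∀ (P : Subgroup Ω) (f : Ω → Ω), IsMap D P f →
      IsMap D (imgSub (autMap a) P) (tw a f))
    (hfr : ∀ (P : Subgroup Ω) (f : Ω → Ω), IsMap F P f →
      ∃ a ∈ F.autGroup S, ∃ d, IsMap D P d ∧ ∀ x ∈ P, f x = autMap a (d x)) :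
    D.IsNormalIn F p := by
  refine ⟨⟨hDs, hF, hsub, stronglyClosed_iff.2 ⟨le_rfl, fun _ _ _ hg _ hx => hg.mem_S hx⟩,
    fun P hP φ hφ a ha => ?_, fun P hP φ hφ => ?_⟩, fun α hα => ?_⟩
  · have ham : IsMap F S (autMap a) := (mem_autGroup_iff le_rfl).1 ha
    have hm := htw a ha P _ (isMap_of_mem hφ)
    have himg : (P.subgroupOf S).map (S.subtype.comp a.toMonoidHom) = imgSub (autMap a) P := by
      ext z
      constructor
      · rintro ⟨w, hw, rfl⟩
        exact (ham.mono hP).mem_imgSub.2 ⟨w, hw, autMap_coe a w⟩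
      · intro hz
        obtain ⟨x, hx, rfl⟩ := (ham.mono hP).mem_imgSub.1 hz
        exact ⟨⟨x, hP hx⟩, hx, (autMap_apply a (hP hx)).symm⟩
    rw [← himg] at hm
    obtain ⟨χ, hχ, hχe⟩ := hm
    refine ⟨χ, hχ, fun x hx hax => ?_⟩
    rw [hχe ⟨_, hax⟩]
    show tw a (homFun φ) ((a ⟨x, hP x.2⟩ : S) : Ω) = _
    rw [← autMap_apply a (hP x.2), tw_apply a _ (hP x.2), homFun_coe, autMap_apply a hx]
  · obtain ⟨a, ha, d, ⟨ψ, hψ, hψe⟩, hde⟩ := hfr P _ (isMap_of_mem hφ)
    refine ⟨a, ha, ψ, hψ, fun x hx => ?_⟩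
    rw [← homFun_coe φ x, hde x x.2, ← autMap_apply a hx, hψe x]
  · have hT : S ⊔ centralizerIn S S = S := sup_eq_left.2 centralizerIn_le
    have hm : IsMap F S (autMap α) := isMap_of_sub hsub ((mem_autGroup_iff le_rfl).1 hα)
    haveI : Finite (S ⊔ centralizerIn S S : Subgroup Ω) := finite_of_le hT.le
    obtain ⟨β, hβ, hβe⟩ := (isIso_of_mapsTo (hm.mono hT.le) fun y hy =>
      hT.ge (autMap_mem α (hT.le hy))).exists_aut
    refine ⟨β, hβ, fun x => ?_, fun c hc => ?_⟩
    · rw [← autMap_coe β, Subgroup.coe_inclusion, hβe _ (Subgroup.mem_sup_left x.2), autMap_coe]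
    · rw [← autMap_coe β, hβe _ c.2]
      have hcS : (c : Ω) ∈ S := centralizerIn_le hc
      refine ⟨S.mul_mem (S.inv_mem hcS) (autMap_mem α hcS),
        Subgroup.mul_mem _ (Subgroup.inv_mem _ ?_) ?_⟩
      · exact (FusionSys.mem_centralizerIn.1 hc).2
      · intro y hy
        obtain ⟨z, hz, rfl⟩ : ∃ z ∈ S, autMap α z = y :=
          ⟨_, autMap_mem _ hy, autMap_inv_apply α hy⟩
        rw [← hm.map_mul hz hcS, ← hm.map_mul hcS hz, (FusionSys.mem_centralizerIn.1 hc).2 z hz]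

theorem isNormalIn_self (hF : F.IsSaturated p) : F.IsNormalIn F p := by
  refine isNormalIn_top hF hF (fun _ => Set.Subset.rfl) (fun a ha P f hf => ?_) fun P f hf =>
    ⟨1, one_mem _, f, hf, fun x hx => (FusionSys.autMap_one (hf.mem_S hx)).symm⟩
  have hb : IsMap F S (autMap a) := (mem_autGroup_iff le_rfl).1 ha
  have hb' : IsMap F S (autMap a⁻¹) := (mem_autGroup_iff le_rfl).1 (inv_mem ha)
  have hin : ∀ y ∈ imgSub (autMap a) P, autMap a⁻¹ y ∈ P := fun y hy => by
    obtain ⟨x, hx, rfl⟩ := (hb.mono hf.le).mem_imgSub.1 hy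
    rwa [S5114.inv_autMap_apply a (hf.le hx)]
  exact ((hb'.mono (hb.mono hf.le).imgSub_le).comp hf hin).comp hb fun y hy => hf.mem_S (hin y hy)

/-- A quasisimple system has no other normal subsystem over the whole group. -/
theorem le_of_normal_quasisimple (hS : IsPGroup p S) (hq : F.Quasisimple p) {D : FusionSystem S}
    (hD : D.IsNormalIn F p) : F.IsSubsystemOf D := by
  obtain ⟨hF, -, hsimp⟩ := hq
  have hcen := isCentral_center F
  have hR : F.StronglyClosed F.center := stronglyClosed_of_normal (ComponentFix.isNormal_of_isCentral hcen)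
  set θ := QuotientGroup.mk' ((F.center).subgroupOf S)
  have hθ : KerEq θ F.center := fun s => QuotientGroup.eq_one_iff s
  have hrange : θ.range = (⊤ : Subgroup (S ⧸ (F.center).subgroupOf S)) :=
    MonoidHom.range_eq_top.2 (QuotientGroup.mk'_surjective _)
  set Z := F.center
  set S' : Subgroup (S ⧸ Z.subgroupOf S) := ⊤ with hS'
  set E : FusionSystem S' := factorSystem θ hθ hR hrange
  have hE : F.IsFactorSystem Z θ E := isFactorSystem_factorSystem θ hθ hR hrange
  obtain ⟨hEs, hne, hEsimp⟩ := hsimp E hE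
  haveI : Finite S' := hrange ▸ Finite.of_surjective _ θ.rangeRestrict_surjective
  have hs : Lift.Setup p F θ Z E E := ⟨hS, hF, hcen, hE, isNormalIn_self hEs⟩
  have hDsub := hD.1.2.2.1
  have hZS : Z ≤ S := hcen.1
  have hRD : D.StronglyClosed Z := closed_sub hDsub hR hZS
  have hcenD : D.IsCentral Z := isCentral_of_singleton hS hD.1.1 hZS fun P f hf x hx hxZ =>
    fix_of_isCentral hcen (isMap_of_sub hDsub hf) hx hxZ
  set E' : FusionSystem S' := factorSystem θ hθ hRD hrange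
  have hE' : D.IsFactorSystem Z θ E' := isFactorSystem_factorSystem θ hθ hRD hrange
  have hE's : E'.IsSaturated p := H49.isSaturated_factor hS hD.1.1 hRD hE'
  have hs' : Lift.Setup p D θ Z E' E' := ⟨hS, hD.1.1, hcenD, hE', isNormalIn_self hE's⟩
  have hpre : preimageAlong θ S' = S := le_antisymm (preimageAlong_le θ S')
    fun x hx => mem_pre.2 ⟨hx, Subgroup.mem_top _⟩
  have hPS : ∀ P', preimageAlong θ P' ≤ S := preimageAlong_le θ
  have hE'sub : E'.IsSubsystemOf E := by
    intro P' φ' hφ'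
    obtain ⟨hP', φ, hφ, hi⟩ := (hE'.2.2.2 P' φ').1 hφ'
    exact (hE.2.2.2 P' φ').2 ⟨hP', φ, hDsub _ hφ, hi⟩
  have hE'n : E'.IsNormalIn E p := by
    refine isNormalIn_top hEs hE's hE'sub (fun a ha P' f' hf' => ?_) fun P' f' hf' => ?_
    · obtain ⟨g, hg, hge⟩ := hs'.exists_lift hf'
      obtain ⟨A, hA, hAe⟩ := hs.exists_iso_lift (isIso_autMap le_rfl ha)
      rw [hpre] at hA hAe
      obtain ⟨α, hα, hαe⟩ := hA.exists_aut
      have hαm : IsMap F S (autMap α) := (mem_autGroup_iff le_rfl).1 hα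
      have hαt : ∀ x ∈ S, th θ (autMap α x) = autMap a (th θ x) := fun x hx => by
        rw [hαe x hx, hAe x hx]
      have ham : IsMap E S' (autMap a) := (mem_autGroup_iff le_rfl).1 ha
      have hχ : IsMap D (imgSub (autMap α) (preimageAlong θ P')) (tw α g) :=
        tw_invariant hD.1.2.2 (stronglyClosed_iff.2 ⟨le_rfl, fun _ _ _ hg _ hx => hg.mem_S hx⟩) le_rfl
          hα (hPS P') hg
      obtain ⟨χ, hχ', hχe⟩ := hs'.exists_induced hχ
      have hle : imgSub (autMap a) P' ≤ imageAlong θ (imgSub (autMap α) (preimageAlong θ P')) :=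
        fun y hy => by
          obtain ⟨z, hz, rfl⟩ := (ham.mono hf'.le).mem_imgSub.1 hy
          obtain ⟨x, hx, rfl⟩ := hs.exists_th (hf'.le hz)
          rw [← hαt x hx]
          exact th_mem_img (hαm.mono (hPS P')).imgSub_le
            ((hαm.mono (hPS P')).mem_imgSub.2 ⟨x, mem_pre.2 ⟨hx, hz⟩, rfl⟩)
      refine (hχ'.mono hle).congr fun y hy => ?_
      obtain ⟨z, hz, rfl⟩ := (ham.mono hf'.le).mem_imgSub.1 hy
      obtain ⟨x, hx, rfl⟩ := hs.exists_th (hf'.le hz)
      have hxp : x ∈ preimageAlong θ P' := mem_pre.2 ⟨hx, hz⟩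
      rw [tw_apply a f' (hf'.le hz), ← hαt x hx,
        ← hχe _ ((hαm.mono (hPS P')).mem_imgSub.2 ⟨x, hxp, rfl⟩), tw_apply α g hx,
        hαt _ (hg.mem_S hxp), hge x hxp]
    · obtain ⟨g, hg, hge⟩ := hs.exists_lift hf'
      obtain ⟨A, hA, d, hd, hde⟩ := frattini_map hD.1.2.2 (hPS P') hg
      obtain ⟨a, ha, hae⟩ := hs.exists_induced_aut le_rfl hA
      obtain ⟨d', hd', hd'e⟩ := hs'.exists_induced hd
      have himg : imageAlong θ S = S' := top_le_iff.1 fun y hy => by
        obtain ⟨x, hx, rfl⟩ := hs.exists_th hy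
        exact th_mem_img le_rfl hx
      revert a
      rw [himg]
      intro a ha hae
      have hP' : P' ≤ imageAlong θ (preimageAlong θ P') := fun z hz => by
        obtain ⟨x, hx, rfl⟩ := hs.exists_th (hf'.le hz)
        exact th_mem_img (hPS P') (mem_pre.2 ⟨hx, hz⟩)
      refine ⟨a, ha, d', hd'.mono hP', fun z hz => ?_⟩
      obtain ⟨x, hx, rfl⟩ := hs.exists_th (hf'.le hz)
      have hxp : x ∈ preimageAlong θ P' := mem_pre.2 ⟨hx, hz⟩
      rw [← hge x hxp, hde x hxp, ← hd'e x hxp, hae _ (hd.mem_S hxp)]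
  have heq : ∀ P', E'.Hom P' = E.Hom P' := by
    rcases hEsimp S' E' hE'n with h | ⟨-, h⟩
    · exact absurd h hne
    · exact h
  -- automorphisms of `S`
  haveI := finite_mulAut_of_le (le_refl S)
  haveI := finite_autGroup F (le_refl S)
  haveI : Finite Z := finite_of_le hZS
  have haut : F.autGroup S ≤ D.autGroup S := by
    intro β hβ
    have hβm : IsMap F S (autMap β) := (mem_autGroup_iff le_rfl).1 hβ
    obtain ⟨f', hf', hfe⟩ := hs.exists_induced hβm
    have hf'' : IsMap E' (imageAlong θ S) f' := by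
      obtain ⟨φ', hφ', hφe⟩ := hf'
      exact ⟨φ', (heq _).symm ▸ hφ', hφe⟩
    obtain ⟨g, hg, hge⟩ := hs'.exists_lift hf''
    have hSi : S ≤ preimageAlong θ (imageAlong θ S) := fun x hx =>
      mem_pre.2 ⟨hx, th_mem_img le_rfl hx⟩
    replace hg := hg.mono hSi
    obtain ⟨γ, hγ, hγe⟩ := (isIso_of_mapsTo hg fun x hx => hg.mem_S hx).exists_aut
    have hγF : γ ∈ F.autGroup S :=
      mem_autGroup_of_isMap (isMap_of_sub hDsub ((mem_autGroup_iff le_rfl).1 hγ))
    set ε := γ⁻¹ * β with hε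
    have hεF : ε ∈ F.autGroup S := mul_mem (inv_mem hγF) hβ
    have hεm : IsMap F S (autMap ε) := (mem_autGroup_iff le_rfl).1 hεF
    have hεZ : ∀ x ∈ S, x⁻¹ * autMap ε x ∈ Z := fun x hx => by
      have hy : autMap β x ∈ S := autMap_mem β hx
      have hgx : autMap γ x ∈ S := autMap_mem γ hx
      have h1 : (autMap γ x)⁻¹ * autMap β x ∈ Z := by
        rw [← hs.th_eq_one (mul_mem (inv_mem hgx) hy), Lift.th_diff hgx hy, hγe x hx, hge x (hSi hx),
          hfe x hx, inv_mul_cancel]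
      have hγ' : IsMap F S (autMap γ⁻¹) := (mem_autGroup_iff le_rfl).1 (inv_mem hγF)
      have h2 := fix_of_isCentral hcen hγ' (hZS h1) h1
      rw [hγ'.map_mul (inv_mem hgx) hy, hγ'.map_inv hgx, S5114.inv_autMap_apply γ hx] at h2
      rw [hε, autMap_mul _ _ hx, h2]
      exact h1
    obtain ⟨n, hn⟩ := IsPGroup.iff_card.1 (hS.to_le hZS)
    have hεp : ε ^ p ^ n = 1 := aut_ext fun x hx => by
      have key : ∀ j : ℕ, autMap (ε ^ j) x = x * (x⁻¹ * autMap ε x) ^ j := by
        intro j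
        induction j with
        | zero => rw [pow_zero, pow_zero, FusionSys.autMap_one hx, mul_one]
        | succ j ih =>
          have hj := Z.pow_mem (hεZ x hx) j
          rw [pow_succ', autMap_mul _ _ hx, ih, hεm.map_mul hx (hZS hj),
            fix_of_isCentral hcen hεm (hZS hj) hj, pow_succ', ← mul_assoc x, mul_inv_cancel_left]
      rw [key, ← hn, show (x⁻¹ * autMap ε x) ^ Nat.card Z = 1 from
        congrArg Subtype.val (pow_card_eq_one' (x := (⟨_, hεZ x hx⟩ : Z))), mul_one,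
        FusionSys.autMap_one hx]
    set H := (D.autGroup S).subgroupOf (F.autGroup S) with hH
    haveI : H.Normal := ⟨fun a ha y => WeakResidual.conj_mem_autGroup hD.1.2.2 le_rfl y.2 ha⟩
    have hpn : ¬ p ∣ H.index := by
      have hSn : F.IsFullyNormalized S := ⟨le_rfl, fun Q hQ => by rw [eq_S_of_isConj hQ]⟩
      have h1 := ((isFullyAutomized_iff hS).1 (isFullyAutomized_of_isFullyNormalized hS hF hSn)).2
      exact fun hd => h1 (hd.trans (Subgroup.index_dvd_of_le (H := (autInducedBy S S).subgroupOf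
        (F.autGroup S)) (fun a ha => autInducedBy_le_autGroup D le_rfl ha)))
    have h2 : (⟨ε, hεF⟩ : F.autGroup S) ^ H.index ∈ H := H.pow_index_mem _
    have h3 : (⟨ε, hεF⟩ : F.autGroup S) ^ p ^ n ∈ H := by
      rw [show (⟨ε, hεF⟩ : F.autGroup S) ^ p ^ n = 1 from Subtype.ext hεp]
      exact one_mem _
    have hco : Nat.Coprime (p ^ n) H.index :=
      ((Fact.out : p.Prime).coprime_iff_not_dvd.2 hpn).pow_left n
    have hb1 := Nat.gcd_eq_gcd_ab (p ^ n) H.index
    rw [hco.gcd_eq_one, Nat.cast_one] at hb1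
    have h4 : (⟨ε, hεF⟩ : F.autGroup S) ∈ H := by
      rw [← zpow_one (⟨ε, hεF⟩ : F.autGroup S), hb1, zpow_add, zpow_mul, zpow_mul, zpow_natCast,
        zpow_natCast]
      exact mul_mem (zpow_mem h3 _) (zpow_mem h2 _)
    have h5 : γ * ε ∈ D.autGroup S := mul_mem hγ h4
    rwa [hε, mul_inv_cancel_left] at h5
  rw [isSubsystemOf_iff_isMap]
  intro P f hf
  obtain ⟨a, ha, d, hd, hde⟩ := frattini_map hD.1.2.2 hf.le hf
  exact (hd.comp ((mem_autGroup_iff le_rfl).1 (haut ha)) fun x hx => hd.mem_S hx).congr hde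

omit [Finite S] [Fact p.Prime] in
theorem subnormal_le {U : Subgroup Ω} {C : FusionSystem U} (h : C.IsSubsystemOf F) : U ≤ S :=
  le_of_sub h

/-- A component lies in every normal subsystem over a subgroup containing its support. -/
theorem component_le {U : Subgroup Ω} {C : FusionSystem U} (hC : C.IsSubnormalIn F p)
    (hq : C.Quasisimple p) (hS : IsPGroup p S) (hF : F.IsSaturated p) {R : Subgroup Ω}
    {N : FusionSystem R} (hN : N.IsNormalIn F p) (hUR : U ≤ R) : C.IsSubsystemOf N := by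
  have main : ∀ {U S : Subgroup Ω} {C : FusionSystem U} {F : FusionSystem S} {p' : ℕ},
      C.IsSubnormalIn F p' → p' = p → C.Quasisimple p → Finite S → IsPGroup p S →
        ∀ {R : Subgroup Ω} {N : FusionSystem R}, N.IsNormalIn F p → U ≤ R → C.IsSubsystemOf N := by
    intro U S C F p' h
    induction h with
    | refl G p' =>
      intro hp hq hfin hS R N hN hUR
      subst hp
      haveI := hfin
      obtain rfl := le_antisymm hN.1.2.2.2.1.1 hUR
      exact le_of_normal_quasisimple hS hq hN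
    | step hCD hDG ih =>
      intro hp hq hfin hS R N hN hUR
      subst hp
      haveI := hfin
      have hRS := hN.1.2.2.2.1.1
      have hVS := hDG.1.2.2.2.1.1
      haveI := finite_of_le hVS
      obtain ⟨M, ⟨-, hMN, hMD⟩, -⟩ := exists_meet hS hN hDG
      have h1 := ih rfl hq (finite_of_le hVS) (hS.to_le hVS) hMD
        (le_inf hUR (le_of_sub (ComponentFix.subnormal_sub hCD)))
      exact fun P => (h1 P).trans (hMN.1.2.2.1 P)
  exact main hC rfl hq inferInstance hS hN hUR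

/-- The graph of a subsystem. -/
def graphOf (S : Subgroup Ω) {R : Subgroup Ω} (E : FusionSystem R) :
    Set (Σ P : {P : Subgroup Ω // P ≤ S}, (↥P.1 → S)) :=
  {q | ∃ φ ∈ E.Hom q.1, ∀ x, φ x = (q.2 x : Ω)}

/-- The layer exists. -/
theorem exists_layer (hS : IsPGroup p S) (hF : F.IsSaturated p) :
    ∃ (T : Subgroup Ω) (E : FusionSystem T), E.IsLayerOf F p := by
  let Good : Set (Set (Σ P : {P : Subgroup Ω // P ≤ S}, (↥P.1 → S))) :=
    {G | ∃ (R : Subgroup Ω) (D : FusionSystem R), D.IsNormalIn F p ∧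
      (∀ (U : Subgroup Ω) (C : FusionSystem U), C.IsComponentIn F p → C.IsSubsystemOf D) ∧
      G = graphOf S D}
  haveI : Finite {P : Subgroup Ω // P ≤ S} := by
    refine Finite.of_injective (fun P => P.1.subgroupOf S) fun P Q h => Subtype.ext ?_
    have h1 := congrArg (fun K => K.map S.subtype) h
    simp only [Subgroup.map_subgroupOf_eq_of_le P.2, Subgroup.map_subgroupOf_eq_of_le Q.2] at h1
    exact h1
  haveI : ∀ P : {P : Subgroup Ω // P ≤ S}, Finite (↥P.1 → S) := fun P => by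
    haveI := finite_of_le P.2
    infer_instance
  have hne : Good.Nonempty := ⟨_, S, F, isNormalIn_self hF,
    fun U C hC => ComponentFix.subnormal_sub hC.1, rfl⟩
  obtain ⟨G, hG⟩ := (Set.toFinite Good).exists_minimal hne
  obtain ⟨T, E, hE, hcomp, rfl⟩ := hG.1
  refine ⟨T, E, hE, hcomp, fun R D hD hDcomp => ?_⟩
  obtain ⟨M, ⟨hM, hME, hMD⟩, -⟩ := exists_meet hS hE hD
  have hMcomp : ∀ (U : Subgroup Ω) (C : FusionSystem U), C.IsComponentIn F p → C.IsSubsystemOf M :=
    fun U C hC => component_le hC.1 hC.2 hS hF hM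
      (le_inf (le_of_sub (hcomp U C hC)) (le_of_sub (hDcomp U C hC)))
  have hle : graphOf S M ⊆ graphOf S E := fun q ⟨φ, hφ, he⟩ => ⟨φ, hME.1.2.2.1 _ hφ, he⟩
  have hge : graphOf S E ⊆ graphOf S M := hG.2 ⟨_, M, hM, hMcomp, rfl⟩ hle
  intro P φ hφ
  obtain ⟨hPT, hval⟩ := E.le_of_mem hφ
  have hTS := hE.1.2.2.2.1.1
  obtain ⟨ψ, hψ, hψe⟩ := hge (show (⟨⟨P, hPT.trans hTS⟩, fun x => ⟨φ x, hTS (hval x)⟩⟩ :
    Σ P : {P : Subgroup Ω // P ≤ S}, (↥P.1 → S)) ∈ graphOf S E from ⟨φ, hφ, fun _ => rfl⟩)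
  rw [← (MonoidHom.ext hψe : ψ = φ)]
  exact hMD.1.2.2.1 P hψ

end Cfsg.Agent.H89.Gen
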