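import Cfsg.Agent.H89.Gen.Frattini
import Cfsg.Agent.Fusion.Basic
import Cfsg.Agent.FusionSys.SaturationCriterion

/-!
The automorphism group of the generated subsystem at a fully normalized subgroup of the class.
-/

set_option autoImplicit false
set_option linter.style.haveILetI false
set_option linter.unusedSectionVars false

namespace Cfsg.Agent.H89.Gen

open Cfsg Cfsg.FusionSystem Cfsg.Agent.FusionSys Cfsg.Agent.H91.CentFocal
open Cfsg.Agent.H48 (IsSylowIn)
open Cfsg.FusionSystem (centralizerIn normalizerIn)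
open scoped commutatorElement

universe u

variable {Ω : Type u} [Group Ω] {S T : Subgroup Ω} {p : ℕ} {F : FusionSystem S} {I : FusionSystem T}

namespace Setup

variable (hs : Setup p F I)
include hs

/-- `Aut_{T₀}(Q)`. -/
def uAut (_hs : Setup p F I) (Q : Subgroup Ω) : Subgroup (MulAut Q) :=
  autInducedBy (T) Q

/-- The candidate automorphism group. -/
noncomputable def bAut (Q : Subgroup Ω) : Subgroup (MulAut Q) :=
  (pResidual p (I.autGroup Q)).map (I.autGroup Q).subtype ⊔ hs.uAut Q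

variable [Finite S] [Fact p.Prime] {Q : Subgroup Ω}

theorem uAut_le_S : hs.uAut Q ≤ autInducedBy S Q := autInducedBy_mono hs.T_le

theorem uAut_le_autI (hQ : Q ≤ T) : hs.uAut Q ≤ I.autGroup Q :=
  autInducedBy_le_autGroup I hQ

theorem uAut_le_bAut : hs.uAut Q ≤ hs.bAut Q := le_sup_right

theorem bAut_le_autI (hQ : Q ≤ T) : hs.bAut Q ≤ I.autGroup Q :=
  sup_le (Subgroup.map_subtype_le _) (hs.uAut_le_autI hQ)

/-- Elements of order prime to `p` lie in the candidate. -/
theorem mem_bAut_of_coprime {α : MulAut Q} (hα : α ∈ I.autGroup Q)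
    (hco : (orderOf α).Coprime p) : α ∈ hs.bAut Q := by
  refine Subgroup.mem_sup_left ⟨⟨α, hα⟩, Cores.mem_pResidual_of_coprime ?_, rfl⟩
  rwa [Subgroup.orderOf_mk]

theorem bAut_le_D0 (hQ : InH F T Q) : hs.bAut Q ≤ hs.D0.autGroup Q := by
  refine sup_le ?_ (autInducedBy_le_autGroup hs.D0 hQ.1)
  rw [Subgroup.map_le_iff_le_comap]
  refine Cores.pResidual_le fun α hα => ?_
  exact (mem_autGroup_iff hQ.1).2 (hs.isMap_D0.2 (InD.gen hQ
    (by rwa [Subgroup.coe_subtype, Subgroup.orderOf_coe])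
    ((mem_autGroup_iff hQ.1).1 α.2)))

theorem conj_uAut {w u : MulAut Q} (hw : w ∈ autInducedBy S Q)
    (hu : u ∈ hs.uAut Q) : w * u * w⁻¹ ∈ hs.uAut Q := by
  obtain ⟨s, hsS, hsn, rfl⟩ := mem_autInducedBy.1 hw
  obtain ⟨t, htT, htn, rfl⟩ := mem_autInducedBy.1 hu
  refine mem_autInducedBy.2 ⟨s * t * s⁻¹, hs.T_conj hsS htT,
    mul_mem (mul_mem hsn htn) (inv_mem hsn), ?_⟩
  show conjAutHom Q ⟨s, hsn⟩ * conjAutHom Q ⟨t, htn⟩ * (conjAutHom Q ⟨s, hsn⟩)⁻¹ = _
  rw [← map_inv, ← map_mul, ← map_mul]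
  rfl

variable (hQ : InH F T Q) (hQn : F.IsFullyNormalized Q)
include hQ hQn

theorem conj_bAut {g b : MulAut Q} (hg : g ∈ I.autGroup Q) (hb : b ∈ hs.bAut Q) :
    g * b * g⁻¹ ∈ hs.bAut Q := by
  haveI := hs.finite_T
  haveI := finite_autGroup I hQ.1
  haveI := finite_mulAut_of_le hQn.1
  set A := I.autGroup Q with hA
  have hsy := hs.isSylowIn_autI hQ.1 hQn
  suffices htop : (Subgroup.normalizer (hs.bAut Q : Set (MulAut Q))).subgroupOf A = ⊤ from
    (Subgroup.mem_normalizer_iff.1 (htop.ge (Subgroup.mem_top (⟨g, hg⟩ : A))) b).1 hb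
  refine top_le_iff.1 ((Fusion.sylow_sup_pResidual hsy.toSylow).ge.trans (sup_le (fun w hw => ?_)
    fun w hw => Subgroup.le_normalizer (Subgroup.mem_sup_left ⟨w, hw, rfl⟩)))
  rw [hsy.coe_toSylow] at hw
  refine Subgroup.mem_subgroupOf.2 (H48.mem_normalizer_of_cj_eq (H48.cj_eq_self_of_le
    (H48.cj_le.2 fun x hx => ?_)))
  have hle : hs.bAut Q ≤ (hs.bAut Q).comap (MulAut.conj (w : MulAut Q)).toMonoidHom := by
    refine sup_le ?_ fun u hu => Subgroup.mem_sup_right (hs.conj_uAut hw.2 hu)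
    rintro _ ⟨o, ho, rfl⟩
    exact Subgroup.mem_sup_left ⟨w * o * w⁻¹, Subgroup.Normal.conj_mem inferInstance o ho w, rfl⟩
  exact hle hx

theorem isSylowIn_bAut : IsSylowIn p (hs.uAut Q) (hs.bAut Q) := by
  have hQS := hQn.1
  haveI := hs.finite_T
  haveI := finite_autGroup I hQ.1
  haveI := finite_mulAut_of_le hQS
  set A := I.autGroup Q with hA
  have hsy := hs.isSylowIn_autI hQ.1 hQn
  set P0 : Sylow p A := hsy.toSylow with hP0
  set U := (hs.uAut Q).subgroupOf A with hU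
  set B := pResidual p A ⊔ U with hB
  have hUP : U ≤ (P0 : Subgroup A) := fun x hx => by
    rw [hP0, hsy.coe_toSylow]
    exact ⟨x.2, hs.uAut_le_S hx⟩
  have hfoc : pResidual p A ⊓ (P0 : Subgroup A) ≤ U := by
    intro x hx
    have h2 : x ∈ (P0 : Subgroup A) := hx.2
    rw [hP0, hsy.coe_toSylow] at h2
    exact hs.focal Q hQ hQn ⟨⟨x, hx.1, rfl⟩, (Subgroup.mem_inf.1 (Subgroup.mem_subgroupOf.1 h2)).2⟩
  haveI : B.Normal := by
    rw [← Subgroup.normalizer_eq_top_iff, ← top_le_iff]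
    refine (Fusion.sylow_sup_pResidual P0).ge.trans (sup_le (fun g hg => ?_)
      (le_sup_left.trans Subgroup.le_normalizer))
    refine H48.mem_normalizer_of_cj_eq (H48.cj_eq_self_of_le (H48.cj_le.2 fun b hb => ?_))
    have hle : B ≤ B.comap (MulAut.conj g).toMonoidHom := sup_le
      (fun x hx => Subgroup.mem_sup_left (Subgroup.Normal.conj_mem inferInstance x hx g))
      fun x hx => Subgroup.mem_sup_right (by
        rw [hP0, hsy.coe_toSylow, Subgroup.mem_subgroupOf] at hg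
        exact hs.conj_uAut hg.2 hx)
    exact hle hb
  have hinf : (P0 : Subgroup A) ⊓ B = U := by
    refine le_antisymm (fun x hx => ?_) (le_inf hUP le_sup_right)
    obtain ⟨o, ho, u, hu, rfl⟩ := Subgroup.mem_sup_of_normal_left.1 (Subgroup.mem_inf.1 hx).2
    refine mul_mem (hfoc ⟨ho, ?_⟩) hu
    have := mul_mem (Subgroup.mem_inf.1 hx).1 (inv_mem (hUP hu))
    rwa [mul_inv_cancel_right] at this
  have h := H48.isSylowIn_inf_normal P0 B
  rw [hinf] at h
  refine ⟨hs.uAut_le_bAut, (isPGroup_autInducedBy hs.hS Q).to_le hs.uAut_le_S, fun hd => h.ndvd ?_⟩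
  rw [hB, hU, Subgroup.subgroupOf, Subgroup.relIndex_comap, Subgroup.map_sup,
    Subgroup.map_comap_eq_self ((A.range_subtype).ge.trans' (hs.uAut_le_autI hQ.1))]
  exact hd

end Setup

end Cfsg.Agent.H89.Gen
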