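import Cfsg.Agent.H91.CentFocal.Basic
import Cfsg.Agent.Cores.Residual

/-!
Powers splitting an element of a finite group into its parts of `p`-power order and of order prime to `p`.
-/

set_option autoImplicit false

namespace Cfsg.Agent.H89.Gen

open Cfsg Cfsg.Agent.FusionSys Cfsg.Agent.H91.CentFocal

variable {G : Type*} [Group G] {p : ℕ} [Fact p.Prime]

theorem pow_self_of_mod {x : G} {m e : ℕ} (hx : x ^ m = 1) (he : e % m = 1 % m) : x ^ e = x := by
  rw [pow_eq_pow_mod e hx, he, ← pow_eq_pow_mod 1 hx, pow_one]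

/-- A power congruent to `1` modulo a given number prime to `p` of order prime to `p`. -/
theorem exists_exp [Finite G] (x : G) {m : ℕ} (hco : m.Coprime p) :
    ∃ e : ℕ, e % m = 1 % m ∧ (orderOf (x ^ e)).Coprime p := by
  have hm : 0 < m := Nat.pos_of_ne_zero fun h => by
    rw [h, Nat.coprime_zero_left] at hco
    exact (Fact.out : p.Prime).ne_one hco
  obtain ⟨a, b, hb, hab⟩ := Nat.exists_eq_pow_mul_and_not_dvd (orderOf_pos x).ne' p
    (Fact.out : p.Prime).ne_one
  refine ⟨(p ^ a) ^ Nat.totient m, Nat.ModEq.pow_totient (hco.symm.pow_left a), ?_⟩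
  refine (((Fact.out : p.Prime).coprime_iff_not_dvd.2 hb).symm).coprime_dvd_left
    (orderOf_dvd_of_pow_eq_one ?_)
  obtain ⟨c, hc⟩ := dvd_pow_self (p ^ a) (Nat.totient_pos.2 hm).ne'
  rw [← pow_mul, hc, show p ^ a * c * b = orderOf x * c by rw [hab]; ring, pow_mul,
    pow_orderOf_eq_one, one_pow]

/-- A power congruent to `1` modulo a given power of `p` of `p`-power order. -/
theorem exists_exp_p [Finite G] (x : G) (a : ℕ) :
    ∃ e : ℕ, e % p ^ a = 1 % p ^ a ∧ ∃ s, (x ^ e) ^ p ^ s = 1 := by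
  obtain ⟨s, b, hb, hsb⟩ := Nat.exists_eq_pow_mul_and_not_dvd (orderOf_pos x).ne' p
    (Fact.out : p.Prime).ne_one
  have hbp : b.Coprime (p ^ a) := ((Fact.out : p.Prime).coprime_iff_not_dvd.2 hb).symm.pow_right a
  refine ⟨b ^ Nat.totient (p ^ a), Nat.ModEq.pow_totient hbp, s, ?_⟩
  obtain ⟨c, hc⟩ := dvd_pow_self b (Nat.totient_pos.2 (pow_pos (Fact.out : p.Prime).pos a)).ne'
  rw [← pow_mul, hc, show b * c * p ^ s = orderOf x * c by rw [hsb]; ring, pow_mul,
    pow_orderOf_eq_one, one_pow]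

variable {Ω : Type*} [Group Ω]

/-- Powers of agreeing automorphisms agree. -/
theorem agree_pow {R M : Subgroup Ω} (hRM : R ≤ M) {β : MulAut M} {b : MulAut R}
    (h : ∀ x ∈ R, autMap β x = autMap b x) (j : ℕ) :
    ∀ x ∈ R, autMap (β ^ j) x = autMap (b ^ j) x := by
  induction j with
  | zero => intro x hx; rw [pow_zero, pow_zero, FusionSys.autMap_one hx, FusionSys.autMap_one (hRM hx)]
  | succ j ih =>
    intro x hx
    rw [pow_succ, pow_succ, autMap_mul _ _ (hRM hx), autMap_mul _ _ hx, h x hx,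
      ih _ (autMap_mem _ hx)]

end Cfsg.Agent.H89.Gen
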