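import Cfsg.Agent.H89.Gen.Exponent
import Cfsg.Agent.H91.CentFocal.Extend
import Cfsg.Agent.FusionSys.SaturationCriterion
import Cfsg.Agent.H48.SylowIn
import Cfsg.Agent.Fusion.Alperin
import Cfsg.Agent.S5114

/-!
An automorphism of a receptive `R ≤ Q C_S(Q)` inducing on `Q` an automorphism of order prime to `p` that
normalizes `Aut_M(Q)` can be changed, inside a given invariant group, into one extending to `M`.
-/

set_option autoImplicit false
set_option linter.style.haveILetI false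
set_option linter.unusedSectionVars false

namespace Cfsg.Agent.H89.Gen

open Cfsg Cfsg.FusionSystem Cfsg.Agent.FusionSys Cfsg.Agent.H91.CentFocal
open Cfsg.Agent.H48 (IsSylowIn cj cj_le)
open Cfsg.FusionSystem (centralizerIn normalizerIn)

variable {Ω : Type*} [Group Ω] {S : Subgroup Ω} {F : FusionSystem S} {p : ℕ}
  [Finite S] [Fact p.Prime]

/-- An automorphism of `R` normalizing `Aut_M(R)` extends to `M`. -/
theorem extend_aux {Q R M : Subgroup Ω} (hQR : Q ≤ R) (hRM : R ≤ M)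
    (hCM : centralizerIn S Q ≤ M) (hMS : M ≤ S) (hMR : M ≤ Subgroup.normalizer (R : Set Ω))
    (hR : F.IsReceptive R) {b : MulAut R} (hb : b ∈ F.autGroup R)
    (hbM : ∀ c ∈ autInducedBy M R, b * c * b⁻¹ ∈ autInducedBy M R) :
    ∃ β ∈ F.autGroup M, ∀ x ∈ R, autMap β x = autMap b x := by
  have hRS : R ≤ S := hRM.trans hMS
  have hbI : IsIso F R R (autMap b) := isIso_autMap hRS hb
  have hkey : ∀ m ∈ M, ∃ w ∈ M, ∀ z ∈ R, autMap b (m * z * m⁻¹) = w * autMap b z * w⁻¹ := by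
    intro m hm
    obtain ⟨w, hwM, hwn, hwe⟩ := mem_autInducedBy.1
      (hbM _ (mem_autInducedBy.2 ⟨m, hm, hMR hm, rfl⟩))
    refine ⟨w, hwM, fun z hz => ?_⟩
    have h := congrArg (fun a => autMap a (autMap b z)) hwe
    rw [autMap_conjAut hwn (autMap_mem _ hz), autMap_mul _ _ (autMap_mem _ hz),
      ← autMap_mul b⁻¹ b hz, inv_mul_cancel, FusionSys.autMap_one hz, autMap_mul _ _ hz,
      autMap_conjAut _ hz] at h
    exact h
  obtain ⟨B, hB, hBe⟩ := receptive_extend hR hbI (N := M) fun m hm => by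
    obtain ⟨w, hw, hwe⟩ := hkey m hm
    exact ⟨hMS hm, hMR hm, w, hMS hw, hwe⟩
  replace hB : IsMap F M B := hB.mono le_sup_left
  haveI := finite_of_le hMS
  refine (isIso_of_mapsTo hB fun m hm => ?_).exists_aut.imp fun β hβ =>
    ⟨hβ.1, fun x hx => (hβ.2 x (hRM hx)).trans (hBe x hx)⟩
  obtain ⟨w, hw, hwe⟩ := hkey m hm
  have hc : w⁻¹ * B m ∈ centralizerIn S Q := by
    refine FusionSys.mem_centralizerIn.2 ⟨S.mul_mem (S.inv_mem (hMS hw)) (hB.mem_S hm), fun q hq => ?_⟩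
    obtain ⟨z, hz, rfl⟩ := hbI.exists_preimage (hQR hq)
    have h1 := hwe z hz
    rw [← hBe _ ((Subgroup.mem_normalizer_iff.1 (hMR hm) z).1 hz), hB.map_conj hm (hRM hz),
      hBe z hz] at h1
    calc autMap b z * (w⁻¹ * B m) = w⁻¹ * (w * autMap b z * w⁻¹) * B m := by group
      _ = _ := by rw [← h1]; group
  have := M.mul_mem hw (hCM hc)
  rwa [mul_inv_cancel_left] at this

/-- Elements of a group generated by `K` and a subgroup normalizing it have a `p`-power in `K`. -/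
theorem pow_mem_of_sup {G : Type*} [Group G] {K P : Subgroup G} (hP : P ≤ Subgroup.normalizer (K : Set G))
    {n : G} (hn : n ∈ K ⊔ P) {a : ℕ} (ha : ∀ c ∈ P, c ^ a = 1) : n ^ a ∈ K := by
  have hn' : n ∈ (↑(K ⊔ P) : Set G) := hn
  rw [Subgroup.coe_mul_of_right_le_normalizer_left K P hP] at hn'
  obtain ⟨k, hk, c, hc, rfl⟩ := hn'
  have key : ∀ j : ℕ, ∃ k' ∈ K, (k * c) ^ j = k' * c ^ j := by
    intro j
    induction j with
    | zero => exact ⟨1, one_mem _, by simp⟩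
    | succ j ih =>
      obtain ⟨k', hk', he⟩ := ih
      refine ⟨k' * (c ^ j * k * (c ^ j)⁻¹), mul_mem hk'
        ((Subgroup.mem_normalizer_iff.1 (hP (P.pow_mem hc j)) k).1 hk), ?_⟩
      rw [pow_succ, he, pow_succ]
      group
  obtain ⟨k', hk', he⟩ := key a
  show (k * c) ^ a ∈ K
  rw [he, ha c hc, mul_one]
  exact hk'

/-- The Frattini argument producing an extension to `M`. -/
theorem exists_frame (hS : IsPGroup p S) (hF : F.IsSaturated p) {Q R M : Subgroup Ω}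
    (hQ : F.IsFullyCentralized Q) (hQR : Q ≤ R) (hRM : R ≤ M) (hRC : R ≤ Q ⊔ centralizerIn S Q)
    (hCM : centralizerIn S Q ≤ M) (hMS : M ≤ S) (hMQ : M ≤ Subgroup.normalizer (Q : Set Ω))
    (hMR : M ≤ Subgroup.normalizer (R : Set Ω)) (hR : F.IsReceptive R)
    {K : Subgroup (MulAut R)} (hK : K ≤ F.autGroup R) (hKQ : K ≤ setStab R Q)
    (hKM : ∀ c ∈ autInducedBy M R, ∀ k ∈ K, c * k * c⁻¹ ∈ K)
    {γ : MulAut R} (hγ : γ ∈ K) {g : MulAut Q} (hγg : ∀ q ∈ Q, autMap γ q = autMap g q)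
    (hco : (orderOf g).Coprime p)
    (hgM : ∀ y ∈ autInducedBy M Q, g * y * g⁻¹ ∈ autInducedBy M Q) :
    ∃ G ∈ F.autGroup M, (orderOf G).Coprime p ∧ (∀ q ∈ Q, autMap G q = autMap g q) ∧
      ∃ k ∈ K, ∀ x ∈ R, autMap G x = autMap k x := by
  have hRS : R ≤ S := hRM.trans hMS
  haveI := finite_of_le hMS
  haveI := finite_of_le hRS
  haveI := finite_mulAut_of_le hRS
  haveI := finite_mulAut_of_le hMS
  haveI := finite_of_le (hQR.trans hRS)
  haveI := finite_mulAut_of_le (hQR.trans hRS)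
  set P1 := autInducedBy M R with hP1
  have hP1p : IsPGroup p P1 := (isPGroup_autInducedBy (hS.to_le hMS) R)
  have hP1F : P1 ≤ F.autGroup R := fun c hc => by
    obtain ⟨m, hm, hmn, rfl⟩ := mem_autInducedBy.1 hc
    exact conjAut_mem_autGroup F hRS ⟨hMS hm, hmn⟩
  have hP1Q : P1 ≤ setStab R Q := fun c hc => by
    obtain ⟨m, hm, hmn, rfl⟩ := mem_autInducedBy.1 hc
    refine mem_setStab_of_mapsTo hQR fun q hq => ?_
    rw [autMap_conjAut hmn (hQR hq), conjMap_apply]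
    exact (Subgroup.mem_normalizer_iff.1 (hMQ hm) q).1 hq
  set KP := K ⊔ P1 with hKP
  have hKPF : KP ≤ F.autGroup R := sup_le hK hP1F
  have hKPQ : KP ≤ setStab R Q := sup_le hKQ hP1Q
  have hnormK : P1 ≤ Subgroup.normalizer (K : Set (MulAut R)) := fun c hc =>
    H48.mem_normalizer_of_cj_eq (H48.cj_eq_self_of_le (cj_le.2 fun k hk => hKM c hc k hk))
  set Y := autInducedBy M Q with hY
  set L := KP ⊓ (Y.comap (stabRes hQR)).map (setStab R Q).subtype with hL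
  have hP1Y : ∀ {m : Ω} (hm : m ∈ M) (hmn : m ∈ Subgroup.normalizer (R : Set Ω))
      (hst : conjAut hmn ∈ setStab R Q), stabRes hQR ⟨_, hst⟩ = conjAut (hMQ hm) :=
    fun hm hmn hst => aut_ext fun q hq => by
      rw [autMap_stabRes hQR _ hq, autMap_conjAut _ (hQR hq), autMap_conjAut _ hq]
  have hmemL : ∀ {a : MulAut R} (ha : a ∈ KP),
      stabRes hQR ⟨a, hKPQ ha⟩ ∈ Y → a ∈ L := fun {a} ha h => ⟨ha, ⟨⟨a, hKPQ ha⟩, h, rfl⟩⟩
  have hP1L : P1 ≤ L := fun c hc => by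
    obtain ⟨m, hm, hmn, rfl⟩ := mem_autInducedBy.1 hc
    exact hmemL (Subgroup.mem_sup_right hc) (by
      rw [hP1Y hm hmn]; exact mem_autInducedBy.2 ⟨m, hm, _, rfl⟩)
  obtain ⟨TY, hTY, hP1T⟩ := H48.exists_isSylowIn_ge hP1p hP1L
  -- `Aut_M(R)` is a Sylow subgroup of `L`
  have hTe : TY = P1 := by
    by_contra hne
    have hlt : P1 < TY := lt_of_le_of_ne hP1T (Ne.symm hne)
    obtain ⟨b, hb, hbP⟩ := SetLike.exists_of_lt (Fusion.ofSubgroupInfLt TY hTY.isPGroup hlt)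
    obtain ⟨hbT, hbn⟩ := Subgroup.mem_inf.1 hb
    obtain ⟨hbKP, ⟨⟨b₀, hb₀⟩, hbY, hbe⟩⟩ := Subgroup.mem_inf.1 (hTY.le hbT)
    obtain rfl : b₀ = b := hbe
    obtain ⟨m, hm, hmn, hme⟩ := mem_autInducedBy.1 (Subgroup.mem_comap.1 hbY)
    have hcP : conjAut (hMR hm) ∈ P1 := mem_autInducedBy.2 ⟨m, hm, _, rfl⟩
    set b' := (conjAut (hMR hm))⁻¹ * b₀ with hb'
    refine hbP ?_
    suffices hb'P : b' ∈ P1 by
      have := P1.mul_mem hcP hb'P
      rwa [hb', mul_inv_cancel_left] at this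
    have hb'T : b' ∈ TY := mul_mem (inv_mem (hP1T hcP)) hbT
    have hb'n : b' ∈ Subgroup.normalizer (P1 : Set (MulAut R)) :=
      mul_mem (inv_mem (Subgroup.le_normalizer hcP)) hbn
    have hb'F : b' ∈ F.autGroup R := mul_mem (inv_mem (hP1F hcP)) (hKPF hbKP)
    have hfix : ∀ q ∈ Q, autMap b' q = q := fun q hq => by
      have h1 : autMap b₀ q = autMap (conjAut (hMR hm)) q := by
        have h2 := congrArg (fun a => autMap a q) hme
        rw [autMap_stabRes hQR _ hq, autMap_conjAut hmn hq] at h2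
        rw [h2, autMap_conjAut _ (hQR hq)]
      rw [hb', autMap_mul _ _ (hQR hq), h1, S5114.inv_autMap_apply _ (hQR hq)]
    obtain ⟨β, hβ, hβe⟩ := extend_aux hQR hRM hCM hMS hMR hR hb'F
      fun c hc => (Subgroup.mem_normalizer_iff.1 hb'n c).1 hc
    obtain ⟨i, hi⟩ := hTY.isPGroup ⟨b', hb'T⟩
    have hi' : b' ^ p ^ i = 1 := congrArg Subtype.val hi
    obtain ⟨e, he, s, hs⟩ := exists_exp_p (p := p) β i
    have hpe : ∀ x ∈ R, autMap (β ^ e) x = autMap b' x := fun x hx => by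
      rw [agree_pow hRM hβe e x hx, pow_self_of_mod hi' he]
    have hQC : Q ⊔ centralizerIn S Q ≤ M := sup_le (hQR.trans hRM) hCM
    have hγM := (mem_autGroup_iff hMS).1 (pow_mem hβ e)
    obtain ⟨w, hw, hwe⟩ := exists_conj_of_fix hS hF hQ (hγM.mono hQC)
      (fun q hq => by rw [hpe q (hQR hq), hfix q hq])
      ⟨s, fun c hc => by
        rw [autMap_pow (β ^ e) (fun _ _ => rfl) _ (hCM hc), hs, FusionSys.autMap_one (hCM hc)]⟩
    refine mem_autInducedBy.2 ⟨w, hCM hw, hMR (hCM hw), aut_ext fun x hx => ?_⟩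
    rw [← hpe x hx, hwe x (hRC hx), autMap_conjAut _ hx]
  rw [hTe] at hTY
  -- move `γ` into the normalizer of `Aut_M(R)`
  have hγKP : γ ∈ KP := Subgroup.mem_sup_left hγ
  have hγres : stabRes hQR ⟨γ, hKPQ hγKP⟩ = g := aut_ext fun q hq => by
    rw [autMap_stabRes hQR _ hq]; exact hγg q hq
  have hle : cj γ P1 ≤ L := cj_le.2 fun c hc => by
    have hckp : γ * c * γ⁻¹ ∈ KP :=
      mul_mem (mul_mem hγKP (Subgroup.mem_sup_right hc)) (inv_mem hγKP)
    refine hmemL hckp ?_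
    obtain ⟨m, hm, hmn, rfl⟩ := mem_autInducedBy.1 hc
    have hst := hP1Q hc
    rw [show (⟨γ * conjAut hmn * γ⁻¹, hKPQ hckp⟩ : setStab R Q) =
      ⟨γ, hKPQ hγKP⟩ * ⟨conjAut hmn, hst⟩ * ⟨γ, hKPQ hγKP⟩⁻¹ from rfl, map_mul, map_mul, map_inv,
      hγres, hP1Y hm hmn hst]
    exact hgM _ (mem_autInducedBy.2 ⟨m, hm, _, rfl⟩)
  obtain ⟨l, hl, hlP⟩ := hTY.exists_cj_le (hP1p.map (MulAut.conj γ).toMonoidHom) hle
  obtain ⟨hlKP, ⟨⟨l₀, hl₀⟩, hlY, hle'⟩⟩ := Subgroup.mem_inf.1 hl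
  obtain rfl : l₀ = l := hle'
  obtain ⟨m, hm, hmn, hme⟩ := mem_autInducedBy.1 (Subgroup.mem_comap.1 hlY)
  have hcP : conjAut (hMR hm) ∈ P1 := mem_autInducedBy.2 ⟨m, hm, _, rfl⟩
  set n := (conjAut (hMR hm))⁻¹ * (l₀ * γ) with hn
  have hnKP : n ∈ KP :=
    mul_mem (inv_mem (Subgroup.mem_sup_right hcP)) (mul_mem hlKP hγKP)
  have hnQ : ∀ q ∈ Q, autMap n q = autMap g q := fun q hq => by
    have hgq := autMap_mem g hq
    have h2 := congrArg (fun a => autMap a (autMap g q)) hme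
    rw [autMap_stabRes hQR _ hgq, autMap_conjAut hmn hgq] at h2
    rw [hn, autMap_mul _ _ (hQR hq), autMap_mul _ _ (hQR hq), hγg q hq, h2,
      ← autMap_conjAut (hMR hm) (hQR hgq), S5114.inv_autMap_apply _ (hQR hgq)]
  have hnn : ∀ c ∈ P1, n * c * n⁻¹ ∈ P1 := fun c hc => by
    have h1 : l₀ * (γ * c * γ⁻¹) * l₀⁻¹ ∈ P1 := cj_le.1 hlP _ ⟨c, hc, rfl⟩
    have h2 := P1.mul_mem (P1.mul_mem (P1.inv_mem hcP) h1) hcP
    convert h2 using 1
    rw [hn]
    group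
  obtain ⟨i, hi⟩ := IsPGroup.iff_card.1 hP1p
  set m0 := orderOf g with hm0
  have hm0pos : 0 < m0 := orderOf_pos g
  set e := (p ^ i) ^ Nat.totient m0 with he
  have he1 : e % m0 = 1 % m0 := Nat.ModEq.pow_totient (hco.symm.pow_left i)
  have hneK : n ^ e ∈ K := by
    obtain ⟨c, hc⟩ := dvd_pow_self (p ^ i) (Nat.totient_pos.2 hm0pos).ne'
    rw [he, hc, pow_mul]
    refine pow_mem (pow_mem_of_sup hnormK hnKP fun d hd => ?_) c
    rw [← hi]
    exact congrArg Subtype.val (pow_card_eq_one' (x := (⟨d, hd⟩ : P1)))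
  have hnQpow : ∀ j : ℕ, ∀ q ∈ Q, autMap (n ^ j) q = autMap (g ^ j) q :=
    agree_pow hQR hnQ
  have hneP : ∀ c ∈ P1, n ^ e * c * (n ^ e)⁻¹ ∈ P1 := by
    have hnN : n ∈ Subgroup.normalizer (P1 : Set (MulAut R)) :=
      H48.mem_normalizer_of_cj_eq (H48.cj_eq_self_of_le (cj_le.2 hnn))
    exact fun c hc => (Subgroup.mem_normalizer_iff.1 (pow_mem hnN e) c).1 hc
  obtain ⟨β, hβ, hβe⟩ := extend_aux hQR hRM hCM hMS hMR hR (hK hneK) hneP
  obtain ⟨e2, he2, hco2⟩ := exists_exp (p := p) β (m := m0) hco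
  refine ⟨β ^ e2, pow_mem hβ e2, hco2, fun q hq => ?_, (n ^ e) ^ e2, pow_mem hneK e2,
    agree_pow hRM hβe e2⟩
  rw [agree_pow hRM hβe e2 q (hQR hq), ← pow_mul, hnQpow _ q hq]
  congr 1
  exact congrArg (fun a => a) (pow_self_of_mod (pow_orderOf_eq_one g)
    (show e * e2 % m0 = 1 % m0 by rw [Nat.mul_mod, he1, he2, ← Nat.mul_mod, one_mul]))

end Cfsg.Agent.H89.Gen
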