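import Cfsg.Agent.H89.Gen.Auto

/-!
Good maps into a fully normalized subgroup of the class, and the bound on its automorphism group.
-/

set_option autoImplicit false
set_option linter.style.haveILetI false
set_option linter.unusedSectionVars false

namespace Cfsg.Agent.H89.Gen

open Cfsg Cfsg.FusionSystem Cfsg.Agent.FusionSys Cfsg.Agent.H91.CentFocal
open Cfsg.Agent.H89.Lift (tw tw_apply isMap_subSys)
open Cfsg.Agent.H48 (IsSylowIn)
open Cfsg.FusionSystem (centralizerIn normalizerIn)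

universe u

variable {Ω : Type u} [Group Ω] {S T : Subgroup Ω} {p : ℕ} {F : FusionSystem S} {I : FusionSystem T}

namespace Setup

variable (hs : Setup p F I)
include hs

variable [Finite S] [Fact p.Prime]

/-- Properties of the maps between members of a class, from the generating automorphisms and the maps with
larger source. -/
theorem class_ind (P : Subgroup Ω) (hlt : ∀ A, hs.D0.IsConj A P → A < T)
    (Φ : Subgroup Ω → (Ω → Ω) → Prop)
    (hcongr : ∀ (A : Subgroup Ω) (f g : Ω → Ω), Φ A f → (∀ x ∈ A, g x = f x) → Φ A g)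
    (hauto : ∀ (A : Subgroup Ω) (α : MulAut A), hs.D0.IsConj A P → InH F T A →
      (orderOf α).Coprime p → α ∈ I.autGroup A → Φ A (autMap α))
    (hstep : ∀ (A R : Subgroup Ω) (f : Ω → Ω), hs.D0.IsConj A P → IsMap hs.D0 R f → A < R → Φ A f)
    (hcomp : ∀ (A : Subgroup Ω) (f g : Ω → Ω), hs.D0.IsConj A P → IsMap hs.D0 A f →
      IsMap hs.D0 (imgSub f A) g → Φ A f → Φ (imgSub f A) g → Φ A (g ∘ f))
    (hinv : ∀ (A : Subgroup Ω) (f g : Ω → Ω), hs.D0.IsConj A P → IsMap hs.D0 A f →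
      IsIso hs.D0 (imgSub f A) A g → (∀ x ∈ A, g (f x) = x) → Φ A f → Φ (imgSub f A) g)
    {A : Subgroup Ω} {f : Ω → Ω} (hf : IsMap hs.D0 A f) (hA : hs.D0.IsConj A P) : Φ A f := by
  let E' := FusionSys.subSys hs.D0 (fun A f => hs.D0.IsConj A P → Φ A f)
    (fun A f g h he hc => hcongr A f g (h hc) he)
    (fun A a _ ha hc => hstep A (T) _ hc (isMap_conj hs.D0 le_rfl ha) (hlt A hc))
    (fun A B u v hu hv hm hA hB hc => by
      have hc' : hs.D0.IsConj (imgSub u A) P := isConj_trans (isConj_symm hu.isIso.isConj) hc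
      have hle : imgSub u A ≤ B := (Subgroup.closure_le _).2 fun y ⟨x, hx, he⟩ => he ▸ hm x hx
      refine hcomp A u v hc hu (hv.mono hle) (hA hc) ?_
      rcases hle.eq_or_lt with he | hl
      · rw [he]
        exact hB (he ▸ hc')
      · exact hstep _ B v hc' hv hl)
    (fun A B u v hu hv hinv' hA hc => by
      obtain rfl := hu.eq_imgSub
      have hc' : hs.D0.IsConj A P := isConj_trans hu.isConj hc
      exact hinv A u v hc' hu.isMap hv hinv' (hA hc'))
  have hgen : HasGens p F I E' := fun Q α hQ hα hi =>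
    isMap_subSys.2 ⟨hs.hasGens_D0 Q α hQ hα hi, fun hc => hauto Q α hc hQ hα ((mem_autGroup_iff hQ.1).2 hi)⟩
  exact (isMap_subSys.1 (hs.isMap_D0.1 hf E' hgen)).2 hA

theorem isFullyNormalized_D0 {Q : Subgroup Ω} (hQT : Q ≤ T)
    (hQn : F.IsFullyNormalized Q) : hs.D0.IsFullyNormalized Q := by
  refine ⟨hQT, fun R hR => ?_⟩
  obtain ⟨f, hf⟩ := isConj_iff.1 (isConj_symm hR)
  have hfF := hs.isIso_D0 hf
  obtain ⟨g, hg, hgi, hgm⟩ := exists_map_to_fullyNormalized hs.hS hs.hF hQn hfF.isConj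
  haveI := hs.finite_T
  haveI := finite_of_le (S := T) (P := normalizerIn (T) Q) normalizerIn_le
  have hle : normalizerIn (T) R ≤ normalizerIn S R := fun x hx =>
    ⟨hs.T_le hx.1, hx.2⟩
  refine card_le_of_mapsTo (hg.mono hle) le_rfl fun x hx => ⟨?_, (hgm x (hle hx)).2⟩
  exact (stronglyClosed_iff.1 hs.hT).2 _ g normalizerIn_le (hg.mono hle) x hx

theorem exists_good {Q : Subgroup Ω} (hQT : Q < T) (hQn : F.IsFullyNormalized Q)
    (hL : SatAbove hs.D0 p (Nat.card Q)) {R : Subgroup Ω} (hR : hs.D0.IsConj R Q) :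
    ∃ ψ, IsGoodMap hs.D0 Q R ψ := by
  haveI := hs.finite_T
  have hT0p : IsPGroup p (T) := hs.hS.to_le hs.T_le
  have hQD := hs.isFullyNormalized_D0 hQT.le hQn
  have hlt : ∀ A, hs.D0.IsConj A Q → A < T := fun A hA =>
    lt_of_le_of_ne (le_of_isConj_left hA) fun h => hQT.ne (eq_S_of_isConj (h ▸ hA))
  have step : ∀ {A B : Subgroup Ω} {u : Ω → Ω}, IsMap hs.D0 B u → A < B →
      (∃ ψ, IsGoodMap hs.D0 Q (imgSub u A) ψ) → ∃ ψ, IsGoodMap hs.D0 Q A ψ := by
    intro A B u hu hAB ⟨ψ, hψ⟩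
    haveI := finite_of_le hu.le
    have hB0 : A < normalizerIn B A := FusionSys.lt_normalizerIn (hT0p.to_le hu.le) hAB
    have hu0 := hu.mono (normalizerIn_le (S := B) (P := A))
    refine good_of_extends hT0p hQD hL (hu0.comp hψ.1 fun x hx => ?_) hB0
      (fun x hx => ⟨hu.le hx.1, hx.2⟩) ((hu.mono hAB.le).isIso.comp hψ.2)
    exact hu.mem_normalizerIn hAB.le hx.1 hx.2
  obtain ⟨f, hf⟩ := isConj_iff.1 hR
  have h := hs.class_ind Q hlt
    (fun A u => (∃ ψ, IsGoodMap hs.D0 Q A ψ) ↔ ∃ ψ, IsGoodMap hs.D0 Q (imgSub u A) ψ)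
    (fun A u v h he => by rwa [imgSub_congr he])
    (fun A α hA _ _ _ => by
      have hAT := le_of_isConj_left hA
      haveI := finite_of_le hAT
      rw [show imgSub (autMap α) A = A from by
        rw [imgSub, image_autMap, Subgroup.closure_eq]])
    (fun A B u hA hu hAB => ⟨fun hG => ?_, step hu hAB⟩)
    (fun A u v _ hu _ h1 h2 => by rw [hu.imgSub_comp]; exact h1.trans h2)
    (fun A u v _ hu hv _ h1 => by rw [← hv.eq_imgSub]; exact h1.symm)
    hf.isMap hR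
  · refine h.2 ⟨id, isMap_id hs.D0 normalizerIn_le, ?_⟩
    rw [← hf.eq_imgSub]
    exact isIso_id hs.D0 hQD.1
  · have hi := hu.isIso
    obtain ⟨v, hv, hv1, -⟩ := hi.exists_symm
    refine step hv.isMap (hu.imgSub_lt hAB) ?_
    rwa [← (hu.mono hAB.le).imgSub_comp,
      imgSub_congr (f := id) (g := v ∘ u) fun x hx => hv1 x (hAB.le hx),
      ← (isIso_id hs.D0 (le_of_isConj_left hA)).eq_imgSub]

/-- Automorphisms of a fully normalized `Q` extending to a larger subgroup lie in the candidate. -/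
theorem good_res {Q : Subgroup Ω} (hQ : InH F T Q) (hQT : Q < T)
    (hQn : F.IsFullyNormalized Q) (hL : SatAbove hs.D0 p (Nat.card Q)) {R : Subgroup Ω} {h : Ω → Ω}
    (hf : IsMap hs.D0 R h) (hQR : Q < R) (hRN : R ≤ normalizerIn (T) Q)
    (hQQ : IsIso hs.D0 Q Q h) : ∃ β ∈ hs.bAut Q, ∀ x ∈ Q, autMap β x = h x := by
  haveI := hs.finite_T
  have hT0p : IsPGroup p T := hs.hS.to_le hs.T_le
  have hind : ∀ {X : Subgroup Ω}, X ≤ T → hs.D0.autGroup X ≤ I.autGroup X := fun hX α hα =>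
    (mem_autGroup_iff hX).2 (hs.ind_of_inD (hs.isMap_D0.1 (autGroup_set_subgroup hX hα)))
  induction hn : Nat.card T - Nat.card R using Nat.strong_induction_on generalizing R h with
  | _ n ih =>
  set N := normalizerIn T Q with hNdef
  haveI : Finite N := finite_of_le (S := T) normalizerIn_le
  haveI := finite_of_le hf.le
  set R' := imgSub h R with hR'def
  have hiso : IsIso hs.D0 R R' h := hf.isIso
  have hQR' : Q < R' := by
    conv_lhs => rw [hQQ.eq_imgSub]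
    exact hf.imgSub_lt hQR
  have hR'N : R' ≤ N := fun y hy => by
    obtain ⟨x, hx, rfl⟩ := hf.mem_imgSub.1 hy
    exact hQQ.mem_normalizerIn_of_extends hf hQR.le (fun _ _ => rfl) hx (hRN hx).2
  obtain ⟨W, hconj, hA, hrec⟩ := hL R' hf.imgSub_le
    (haveI := finite_of_le hf.imgSub_le; card_lt_of_lt hQR')
  obtain ⟨c, hc⟩ := isConj_iff.1 hconj
  have hcf : IsIso hs.D0 R W (c ∘ h) := hiso.comp hc
  haveI := finite_of_le hrec.1
  haveI := finite_mulAut_of_le hrec.1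
  set Q2 := imgSub c Q with hQ2
  have hQ2W : Q2 ≤ W := by
    rw [hc.eq_imgSub]
    exact Subgroup.closure_mono (Set.image_mono hQR'.le)
  have hc2 : IsIso hs.D0 Q Q2 c := (hc.isMap.mono hQR'.le).isIso
  have hQimg : imgSub (c ∘ h) Q = Q2 := by
    rw [hQ2, hQQ.isMap.imgSub_comp, ← hQQ.eq_imgSub]
  set Y := hs.D0.autGroup W ⊓ setStab W Q2 with hY
  haveI : Finite Y := inferInstance
  obtain ⟨TY, hTY, -⟩ :=
    H48.exists_isSylowIn_ge (p := p) (IsPGroup.of_bot (G := MulAut W)) (bot_le : ⊥ ≤ Y)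
  obtain ⟨χ, hχ, hχT⟩ := (isSylowIn_of_fullyAutomized hT0p hA).exists_cj_le hTY.isPGroup
    (hTY.le.trans inf_le_left)
  set Q3 := imgSub (autMap χ) Q2 with hQ3
  have hχ2 : IsIso hs.D0 Q2 Q3 (autMap χ) := ((isIso_autMap hrec.1 hχ).isMap.mono hQ2W).isIso
  obtain ⟨ψ, hψ⟩ := hs.exists_good hQT hQn hL (isConj_symm (hc2.comp hχ2).isConj)
  have r23 : IsIso hs.D0 Q2 Q (ψ ∘ autMap χ) := hχ2.comp hψ.2
  obtain ⟨j, hjD, hje⟩ := (hc2.comp r23).exists_aut
  obtain ⟨η, hηD, hηe⟩ := hQQ.exists_aut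
  have hjA := hind hQ.1 hjD
  let r : Y →* MulAut Q :=
    r23.autEquiv.toMonoidHom.comp ((stabRes hQ2W).comp (Subgroup.inclusion inf_le_right))
  have hr : ∀ (y : Y) (z : Ω), z ∈ Q2 →
      autMap (r y) (ψ (autMap χ z)) = ψ (autMap χ (autMap (y : MulAut W) z)) := fun y z hz => by
    show autMap (r23.autEquiv (stabRes hQ2W _)) ((ψ ∘ autMap χ) z) = _
    rw [r23.autMap_autEquiv _ hz, autMap_stabRes hQ2W _ hz]
    rfl
  have hYB : ∀ y : Y, r y ∈ hs.bAut Q := by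
    haveI := finite_mulAut_of_le (S := T) hQ.1
    suffices htop : (hs.bAut Q).comap r = ⊤ from fun y => htop.ge (Subgroup.mem_top y)
    refine top_le_iff.1 ((Fusion.sylow_sup_pResidual hTY.toSylow).ge.trans (sup_le ?_ ?_))
    · intro y hy
      rw [hTY.coe_toSylow] at hy
      obtain ⟨s, hsT, hsn, hse⟩ := mem_autInducedBy.1 (H48.cj_le.1 hχT _ hy)
      have hsx : ∀ z ∈ Q2, autMap χ (autMap (y : MulAut W) z) = s * autMap χ z * s⁻¹ := fun z hz => by
        have hzW := hQ2W hz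
        have h1 := congrArg (fun a => autMap a (autMap χ z)) hse
        rw [autMap_conjAut hsn (autMap_mem _ hzW), autMap_mul _ _ (autMap_mem _ hzW),
          ← autMap_mul χ⁻¹ χ hzW, inv_mul_cancel, FusionSys.autMap_one hzW, autMap_mul _ _ hzW] at h1
        exact h1
      have hyQ2 : ∀ z ∈ Q2, autMap (y : MulAut W) z ∈ Q2 := fun z hz => by
        rw [autMap_apply _ (hQ2W hz)]
        exact (y.2.2 ⟨z, hQ2W hz⟩).1 hz
      haveI := finite_of_le (S := T) hχ2.target_le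
      have hsN : s ∈ normalizerIn T Q3 := ⟨hsT, mem_normalizer_of_maps fun x hx => by
        obtain ⟨z, hz, rfl⟩ := hχ2.exists_preimage hx
        rw [← hsx z hz]
        exact hχ2.mem (hyQ2 z hz)⟩
      have hψs := hψ.mem hsN
      refine Subgroup.mem_comap.2 (hs.uAut_le_bAut (mem_autInducedBy.2 ⟨ψ s, hψs.1, hψs.2,
        aut_ext fun x hx => ?_⟩))
      obtain ⟨z, hz, rfl⟩ := r23.exists_preimage hx
      rw [Function.comp_apply] at hx ⊢
      rw [hr y z hz, hsx z hz, autMap_conjAut hψs.2 hx, conjMap_apply,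
        hψ.1.map_conj hsN (le_normalizerIn_self hψ.2.source_le (hχ2.mem hz))]
    · refine Cores.pResidual_le fun y hy => ?_
      refine hs.mem_bAut_of_coprime ?_ ((hy.coprime_dvd_left (orderOf_map_dvd r y)))
      refine hind hQ.1 (r23.autEquiv_mem_autGroup (mem_autGroup_of_isMap ?_))
      exact ((isIso_autMap hrec.1 y.2.1).isMap.mono hQ2W).congr fun z hz => autMap_stabRes hQ2W _ hz
  by_cases hRe : R = N
  · -- `h` is an automorphism of `N_{T}(Q)`
    have hR'e : R' = R := Subgroup.eq_of_le_of_card_ge (hR'N.trans hRe.ge) hiso.card_eq.le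
    obtain ⟨c', hc', hc'1, -⟩ := hc.exists_symm
    have hy0 : IsIso hs.D0 W W ((c ∘ h) ∘ c') := (hR'e ▸ hc').comp hcf
    obtain ⟨y0, hy0D, hy0e⟩ := hy0.exists_aut
    have hy0Y : y0 ∈ Y := ⟨hy0D, mem_setStab_of_mapsTo hQ2W fun z hz => by
      obtain ⟨x, hx, rfl⟩ := hc2.exists_preimage hz
      rw [hy0e _ (hQ2W hz), Function.comp_apply, hc'1 x (hQR'.le hx)]
      exact hc2.mem (hQQ.mem hx)⟩
    refine ⟨η, ?_, hηe⟩
    have hkey : η = j⁻¹ * r ⟨y0, hy0Y⟩ * j⁻¹⁻¹ := by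
      rw [inv_inv, mul_assoc, eq_inv_mul_iff_mul_eq]
      refine aut_ext fun x hx => ?_
      rw [autMap_mul _ _ hx, autMap_mul _ _ hx, hje x hx, Function.comp_apply, Function.comp_apply,
        hr _ _ (hc2.mem hx), hy0e _ (hQ2W (hc2.mem hx)), Function.comp_apply, hc'1 x (hQR'.le hx),
        hje _ (autMap_mem _ hx), hηe x hx]
      rfl
    rw [hkey]
    exact hs.conj_bAut hQ hQn (inv_mem hjA) (hYB _)
  · have hlt : R < N := lt_of_le_of_ne hRN hRe
    have hlt' : R' < N := lt_of_le_of_ne hR'N fun he => by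
      have h1 := card_lt_of_lt hlt
      rw [hiso.card_eq, he] at h1
      exact lt_irrefl _ h1
    set R1 := normalizerIn N R with hR1
    set R2 := normalizerIn N R' with hR2
    have hR1lt : R < R1 := FusionSys.lt_normalizerIn (hT0p.to_le normalizerIn_le) hlt
    have hR2lt : R' < R2 := FusionSys.lt_normalizerIn (hT0p.to_le normalizerIn_le) hlt'
    have hR1S : R1 ≤ normalizerIn T R := fun x hx => ⟨hx.1.1, hx.2⟩
    have hR2S : R2 ≤ normalizerIn T R' := fun x hx => ⟨hx.1.1, hx.2⟩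
    haveI : Finite R1 := finite_of_le (hR1S.trans normalizerIn_le)
    haveI : Finite R2 := finite_of_le (hR2S.trans normalizerIn_le)
    have hX1 : (autInducedBy R1 R).map hcf.autEquiv.toMonoidHom ≤ Y := by
      have := map_autEquiv_le_stab hcf hQR.le (N := R1) (fun x hx => hx.1)
      rwa [hQimg] at this
    have hX2 : (autInducedBy R2 R').map hc.autEquiv.toMonoidHom ≤ Y :=
      map_autEquiv_le_stab hc hQR'.le (N := R2) (fun x hx => hx.1)
    obtain ⟨y1, hy1, hy1T⟩ := hTY.exists_cj_le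
      (isPGroup_map_autEquiv hT0p hcf (hR1S.trans normalizerIn_le)) hX1
    obtain ⟨y2, hy2, hy2T⟩ := hTY.exists_cj_le
      (isPGroup_map_autEquiv hT0p hc (hR2S.trans normalizerIn_le)) hX2
    have hext : ∀ {M U : Subgroup Ω} {u : Ω → Ω} (hu : IsIso hs.D0 U W u) (hUU : IsIso hs.D0 Q Q2 u)
        (hQU : Q < U) (hUM : U < M) (hMN : M ≤ N) (hMU : M ≤ normalizerIn T U) (y : Y),
        H48.cj (y : MulAut W) ((autInducedBy M U).map hu.autEquiv.toMonoidHom) ≤ TY →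
        Nat.card R < Nat.card M →
        ∃ b ∈ hs.bAut Q, ∀ x ∈ Q, autMap b x = autMap (r y) (ψ (autMap χ (u x))) := by
      intro M U u hu hUU hQU hUM hMN hMU y hyT hcard
      obtain ⟨g, hg, hge⟩ := exists_twisted_extension hrec hu hMU (mul_mem hχ y.2.1) fun a ha => by
        have h1 := H48.cj_le.1 hχT _ (H48.cj_le.1 hyT _ ⟨a, ha, rfl⟩)
        simpa [mul_assoc] using h1
      have hgM := hg.mono (le_sup_left : M ≤ M ⊔ U)
      have hyQ2 : ∀ z ∈ Q2, autMap (y : MulAut W) z ∈ Q2 := fun z hz => by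
        rw [autMap_apply _ (hQ2W hz)]
        exact (y.2.2 ⟨z, hQ2W hz⟩).1 hz
      have hge' : ∀ x ∈ Q, g x = autMap χ (autMap (y : MulAut W) (u x)) := fun x hx => by
        rw [hge x (hQU.le hx), autMap_mul _ _ (hQ2W (hUU.mem hx))]
      haveI := finite_of_le (S := T) (hQ2W.trans hrec.1)
      have hyiso : IsIso hs.D0 Q2 Q2 (autMap (y : MulAut W)) :=
        isIso_of_mapsTo ((isIso_autMap hrec.1 y.2.1).isMap.mono hQ2W) hyQ2
      have hgQ : IsIso hs.D0 Q Q3 g := ((hUU.comp hyiso).comp hχ2).congr hge'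
      have hQM : Q < M := hQU.trans hUM
      haveI := finite_of_le (S := T) hgM.le
      obtain ⟨b, hb, hbe⟩ := ih _ (by
          have h1 : Nat.card M ≤ Nat.card T := Subgroup.card_le_of_le hgM.le
          show Nat.card T - Nat.card M < n
          omega)
        (hgM.comp hψ.1 fun x hx => hgQ.mem_normalizerIn_of_extends hgM hQM.le (fun _ _ => rfl) hx
          (hMN hx).2)
        hQM hMN (hgQ.comp hψ.2) rfl
      exact ⟨b, hb, fun x hx => by
        rw [hbe x hx, Function.comp_apply, hge' x hx, hr y _ (hUU.mem hx)]⟩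
    obtain ⟨b1, hb1, hb1e⟩ := hext hcf (hQimg ▸ (hcf.isMap.mono hQR.le).isIso) hQR hR1lt
      (fun x hx => hx.1) hR1S ⟨y1, hy1⟩ hy1T (card_lt_of_lt hR1lt)
    obtain ⟨b2, hb2, hb2e⟩ := hext hc hc2 hQR' hR2lt (fun x hx => hx.1) hR2S ⟨y2, hy2⟩ hy2T
      (by rw [hiso.card_eq]; exact card_lt_of_lt hR2lt)
    have e2 : b2 = r ⟨y2, hy2⟩ * j := aut_ext fun x hx => by
      rw [hb2e x hx, autMap_mul _ _ hx, hje x hx]
      rfl
    have e1 : b1 = r ⟨y1, hy1⟩ * (j * η) := aut_ext fun x hx => by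
      rw [hb1e x hx, autMap_mul _ _ hx, autMap_mul _ _ hx, hje _ (autMap_mem _ hx), hηe x hx]
      rfl
    refine ⟨η, ?_, hηe⟩
    rw [show η = j⁻¹ * ((r ⟨y1, hy1⟩)⁻¹ * b1) by rw [e1]; group,
      show j = (r ⟨y2, hy2⟩)⁻¹ * b2 by rw [e2]; group]
    exact mul_mem (inv_mem (mul_mem (inv_mem (hYB _)) hb2)) (mul_mem (inv_mem (hYB _)) hb1)

theorem autGroup_D0_top {β : MulAut (T)}
    (hβ : β ∈ hs.D0.autGroup (T)) : β ∈ hs.bAut (T) := by
  haveI := hs.finite_T
  let Φ : Subgroup Ω → (Ω → Ω) → Prop := fun A f => A = T →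
    ∃ b ∈ hs.bAut (T), ∀ x ∈ T, autMap b x = f x
  let E' := FusionSys.subSys hs.D0 Φ
    (fun A f g h he hA => by
      obtain ⟨b, hb, hbe⟩ := h hA
      exact ⟨b, hb, fun x hx => (hbe x hx).trans (he x (hA.symm ▸ hx)).symm⟩)
    (fun A a _ ha _ => ⟨conjAut (Subgroup.le_normalizer ha), hs.uAut_le_bAut
      (mem_autInducedBy.2 ⟨a, ha, _, rfl⟩), fun x hx => autMap_conjAut _ hx⟩)
    (fun A B u v hu hv hm h1 h2 hA => by
      subst A
      obtain ⟨b, hb, hbe⟩ := h1 rfl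
      have hB : B = T := le_antisymm hv.le fun y hy => by
        obtain ⟨x, hx, rfl⟩ := (isIso_of_mapsTo hu fun x hx => hu.mem_S hx).exists_preimage hy
        exact hm x hx
      obtain ⟨c, hc, hce⟩ := h2 hB
      exact ⟨c * b, mul_mem hc hb, fun x hx => by
        rw [autMap_mul _ _ hx, hbe x hx, hce _ (hu.mem_S hx), Function.comp_apply]⟩)
    (fun A B u v hu hv hvu h hB => by
      subst B
      have hA : A = T := eq_S_of_isConj (isConj_symm hu.isConj)
      subst A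
      obtain ⟨b, hb, hbe⟩ := h rfl
      refine ⟨b⁻¹, inv_mem hb, fun y hy => ?_⟩
      obtain ⟨x, hx, rfl⟩ := hu.exists_preimage hy
      rw [hvu x hx, ← hbe x hx, S5114.inv_autMap_apply b hx])
  have hgen : HasGens p F I E' := fun Q α hQ hα hi =>
    isMap_subSys.2 ⟨hs.hasGens_D0 Q α hQ hα hi, fun hQe => by
      subst hQe
      exact ⟨α, hs.mem_bAut_of_coprime ((mem_autGroup_iff le_rfl).2 hi) hα, fun _ _ => rfl⟩⟩
  obtain ⟨b, hb, hbe⟩ :=
    (isMap_subSys.1 (hs.isMap_D0.1 (autGroup_set_subgroup le_rfl hβ) E' hgen)).2 rfl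
  rwa [← aut_ext hbe]

theorem autGroup_le_bAut {Q : Subgroup Ω} (hQ : InH F T Q) (hQn : F.IsFullyNormalized Q)
    (hL : SatAbove hs.D0 p (Nat.card Q)) : hs.D0.autGroup Q ≤ hs.bAut Q := by
  haveI := hs.finite_T
  rcases hQ.1.eq_or_lt with rfl | hQT
  · exact fun β hβ => hs.autGroup_D0_top hβ
  have hT0p : IsPGroup p (T) := hs.hS.to_le hs.T_le
  have hlt : ∀ A, hs.D0.IsConj A Q → A < T := fun A hA =>
    lt_of_le_of_ne (le_of_isConj_left hA) fun h => hQT.ne (eq_S_of_isConj (h ▸ hA))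
  have hQD := hs.isFullyNormalized_D0 hQT.le hQn
  have hstep : ∀ A R u, hs.D0.IsConj A Q → IsMap hs.D0 R u → A < R → ∀ ψ ψ',
      IsGoodMap hs.D0 Q A ψ → IsGoodMap hs.D0 Q (imgSub u A) ψ' →
      ∃ b ∈ hs.bAut Q, ∀ x ∈ A, autMap b (ψ x) = ψ' (u x) := by
    intro A R u _ hu hAR ψ ψ' hψ hψ'
    haveI := finite_of_le hu.le
    set R0 := normalizerIn R A with hR0
    have hlt' : A < R0 := FusionSys.lt_normalizerIn (hT0p.to_le hu.le) hAR
    have hR0N : R0 ≤ normalizerIn (T) A := fun x hx => ⟨hu.le hx.1, hx.2⟩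
    have hψ0 := hψ.1.mono hR0N
    obtain ⟨b, hb, hb1, -⟩ := hψ0.isIso.exists_symm
    have hu0 := hu.mono (fun x (hx : x ∈ R0) => hx.1)
    have hcomp : IsMap hs.D0 (imgSub ψ R0) (ψ' ∘ (u ∘ b)) :=
      (hb.isMap.comp hu0 fun x hx => hb.mem hx).comp hψ'.1 fun x hx =>
        hu.mem_normalizerIn hAR.le (hb.mem hx).1 (hb.mem hx).2
    have hQlt : Q < imgSub ψ R0 := by
      conv_lhs => rw [hψ.2.eq_imgSub]
      exact hψ0.imgSub_lt hlt'
    haveI := finite_of_le hQT.le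
    obtain ⟨β, hβ, hβe⟩ := hs.good_res hQ hQT hQn hL hcomp hQlt (fun y hy => by
        obtain ⟨x, hx, rfl⟩ := hψ0.mem_imgSub.1 hy
        exact hψ.mem (hR0N hx))
      (isIso_of_mapsTo (hcomp.mono hQlt.le) fun x hx => by
        obtain ⟨z, hz, rfl⟩ := hψ.2.exists_preimage hx
        show ψ' (u (b (ψ z))) ∈ Q
        rw [hb1 z (hlt'.le hz)]
        exact hψ'.2.mem ((hu.mono hAR.le).mem_imgSub.2 ⟨z, hz, rfl⟩))
    refine ⟨β, hβ, fun x hx => ?_⟩
    rw [hβe _ (hψ.2.mem hx)]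
    show ψ' (u (b (ψ x))) = _
    rw [hb1 x (hlt'.le hx)]
  intro β hβ
  have h := hs.class_ind Q hlt (fun A u => ∀ ψ ψ', IsGoodMap hs.D0 Q A ψ →
      IsGoodMap hs.D0 Q (imgSub u A) ψ' → ∃ b ∈ hs.bAut Q, ∀ x ∈ A, autMap b (ψ x) = ψ' (u x))
    (fun A f g H he ψ ψ' h1 h2 => by
      obtain ⟨b, hb, hbe⟩ := H ψ ψ' h1 (imgSub_congr he ▸ h2)
      exact ⟨b, hb, fun x hx => (hbe x hx).trans (congrArg ψ' (he x hx).symm)⟩)
    (fun A α hA _ hα hαi ψ ψ' hψ hψ' => by
      have hAT := le_of_isConj_left hA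
      rw [show imgSub (autMap α) A = A from by rw [imgSub, image_autMap, Subgroup.closure_eq]] at hψ'
      haveI := finite_of_le (S := T) (P := normalizerIn (T) A) normalizerIn_le
      obtain ⟨b0, hb0, hb0e⟩ := hstep A (normalizerIn (T) A) id hA
        (isMap_id _ normalizerIn_le) (FusionSys.lt_normalizerIn hT0p (hlt A hA)) ψ ψ' hψ
        (by rwa [← (isIso_id hs.D0 hAT).eq_imgSub])
      have hψI : IsIso I A Q ψ :=
        ⟨hs.ind_of_inD (hs.isMap_D0.1 hψ.2.isMap), hψ.2.image_eq⟩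
      refine ⟨b0 * hψI.autEquiv α, mul_mem hb0 (hs.mem_bAut_of_coprime
        (hψI.autEquiv_mem_autGroup hαi) (by rwa [MulEquiv.orderOf_eq])), fun x hx => ?_⟩
      rw [autMap_mul _ _ (hψ.2.mem hx), hψI.autMap_autEquiv α hx, hb0e _ (autMap_mem α hx)]
      rfl)
    hstep
    (fun A u v hA hu hv H1 H2 ψ ψ' hψ hψ' => by
      obtain ⟨χ, hχ⟩ := hs.exists_good hQT hQn hL (isConj_trans (isConj_symm hu.isIso.isConj) hA)
      rw [hu.imgSub_comp] at hψ'
      obtain ⟨b1, hb1, hb1e⟩ := H1 ψ χ hψ hχ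
      obtain ⟨b2, hb2, hb2e⟩ := H2 χ ψ' hχ hψ'
      refine ⟨b2 * b1, mul_mem hb2 hb1, fun x hx => ?_⟩
      rw [autMap_mul _ _ (hψ.2.mem hx), hb1e x hx, hb2e _ (hu.mem_imgSub.2 ⟨x, hx, rfl⟩)]
      rfl)
    (fun A u v hA hu hv hvu H ψ ψ' hψ hψ' => by
      rw [← hv.eq_imgSub] at hψ'
      obtain ⟨b, hb, hbe⟩ := H ψ' ψ hψ' hψ
      refine ⟨b⁻¹, inv_mem hb, fun y hy => ?_⟩
      obtain ⟨x, hx, rfl⟩ := hu.mem_imgSub.1 hy
      rw [hvu x hx, ← hbe x hx, S5114.inv_autMap_apply b (hψ'.2.mem hx)])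
    (autGroup_set_subgroup hQT.le hβ) (isConj_refl hs.D0 hQT.le)
  have hid : IsGoodMap hs.D0 Q Q id := ⟨isMap_id _ normalizerIn_le, isIso_id _ hQT.le⟩
  obtain ⟨b, hb, hbe⟩ := h id id hid (by
    rwa [← (isIso_autMap hQT.le hβ).eq_imgSub])
  rwa [← aut_ext fun x hx => hbe x hx]

end Setup

end Cfsg.Agent.H89.Gen
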