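import Cfsg.Agent.H89.Gen.Sat
import Cfsg.Agent.H89.Gen.ModExtend

/-!
The common maps of two normal subsystems satisfy the hypotheses of the generation construction.
-/

set_option autoImplicit false
set_option linter.style.haveILetI false
set_option linter.unusedSectionVars false

namespace Cfsg.Agent.H89.Gen

open Cfsg Cfsg.FusionSystem Cfsg.Agent.FusionSys Cfsg.Agent.H91.CentFocal
open Cfsg.Agent.H91.CentSE (Ctr)
open Cfsg.Agent.H89.Lift (tw tw_apply isMap_restr isMap_subSys nSub mem_nSub)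
open Cfsg.Agent.H48 (IsSylowIn)
open Cfsg.FusionSystem (centralizerIn normalizerIn)
open scoped commutatorElement

variable {Ω : Type*} [Group Ω] {S T T₁ T₂ U : Subgroup Ω} {F : FusionSystem S} {p : ℕ}
variable {E : FusionSystem U} {E₁ : FusionSystem T₁} {E₂ : FusionSystem T₂}

theorem closed_inf (h₁ : F.StronglyClosed T₁) (h₂ : F.StronglyClosed T₂) :
    F.StronglyClosed (T₁ ⊓ T₂) :=
  stronglyClosed_iff.2 ⟨inf_le_left.trans h₁.1, fun R f hR hf x hx =>
    ⟨(stronglyClosed_iff.1 h₁).2 R f (hR.trans inf_le_left) hf x hx,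
      (stronglyClosed_iff.1 h₂).2 R f (hR.trans inf_le_right) hf x hx⟩⟩

/-- The maps common to two subsystems. -/
noncomputable def meetSys (hsub : E₁.IsSubsystemOf F) (hT : T₁ ⊓ T₂ ≤ S) (E₂ : FusionSystem T₂) :
    FusionSystem (T₁ ⊓ T₂) :=
  FusionSys.subSys (H90.PPC.restr F hT) (fun P f => IsMap E₁ P f ∧ IsMap E₂ P f)
    (fun _ _ _ h he => ⟨h.1.congr he, h.2.congr he⟩)
    (fun _ _ hP ha => ⟨isMap_conj E₁ (hP.trans inf_le_left) ha.1,
      isMap_conj E₂ (hP.trans inf_le_right) ha.2⟩)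
    (fun _ _ _ _ _ _ hm h1 h2 => ⟨h1.1.comp h2.1 hm, h1.2.comp h2.2 hm⟩)
    (fun P Q f g hf _ hgf h => by
      constructor
      · obtain ⟨g', hg', he⟩ := h.1.exists_inv
        rw [← hf.eq_imgSub] at hg'
        refine hg'.congr fun y hy => ?_
        obtain ⟨x, hx, rfl⟩ := hf.exists_preimage hy
        rw [hgf x hx, he x hx]
      · obtain ⟨g', hg', he⟩ := h.2.exists_inv
        rw [← hf.eq_imgSub] at hg'
        refine hg'.congr fun y hy => ?_
        obtain ⟨x, hx, rfl⟩ := hf.exists_preimage hy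
        rw [hgf x hx, he x hx])

theorem isMap_meetSys (hsub : E₁.IsSubsystemOf F) (hT : T₁ ⊓ T₂ ≤ S) {P : Subgroup Ω} {f : Ω → Ω} :
    IsMap (meetSys hsub hT E₂) P f ↔ IsMap E₁ P f ∧ IsMap E₂ P f := by
  refine isMap_subSys.trans ⟨fun h => h.2, fun h => ⟨(isMap_restr _).2 ⟨isMap_of_sub hsub h.1,
    le_inf h.1.le h.2.le, fun x hx => ⟨h.1.mem_S hx, h.2.mem_S hx⟩⟩, h⟩⟩

theorem meetSys_sub (hsub : E₁.IsSubsystemOf F) (hT : T₁ ⊓ T₂ ≤ S) :
    (meetSys hsub hT E₂).IsSubsystemOf F :=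
  isSubsystemOf_iff_isMap.2 fun _ _ h => isMap_of_sub hsub ((isMap_meetSys hsub hT).1 h).1

theorem autGroup_meetSys (hsub : E₁.IsSubsystemOf F) (hT : T₁ ⊓ T₂ ≤ S) {Q : Subgroup Ω}
    (hQ : Q ≤ T₁ ⊓ T₂) {α : MulAut Q} :
    α ∈ (meetSys hsub hT E₂).autGroup Q ↔ α ∈ E₁.autGroup Q ∧ α ∈ E₂.autGroup Q := by
  rw [mem_autGroup_iff hQ, mem_autGroup_iff (hQ.trans inf_le_left),
    mem_autGroup_iff (hQ.trans inf_le_right)]
  exact isMap_meetSys hsub hT

variable [Finite S] [Fact p.Prime]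

/-- Automorphisms of a strongly closed subgroup act on the maps of an invariant subsystem. -/
theorem tw_invariant (hE : E.IsInvariantIn F) (hT : F.StronglyClosed T) (hTU : T ≤ U) {a : MulAut T}
    (ha : a ∈ F.autGroup T) {P : Subgroup Ω} {f : Ω → Ω} (hP : P ≤ T) (hf : IsMap E P f) :
    IsMap E (imgSub (autMap a) P) (tw a f) := by
  haveI : Finite T := finite_of_le hT.1
  have hsub := hE.1
  have ham : IsMap F T (autMap a) := (mem_autGroup_iff hT.1).1 ha
  have hfT : ∀ x ∈ P, f x ∈ T := (stronglyClosed_iff.1 hT).2 P f hP (isMap_of_sub hsub hf)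
  obtain ⟨b, hb, e, he, hbe⟩ := frattini_map hE hTU ham
  have heT : ∀ x ∈ T, e x ∈ T := (stronglyClosed_iff.1 hT).2 T e le_rfl (isMap_of_sub hsub he)
  obtain ⟨e', he', he'1, -⟩ := (isIso_of_mapsTo he heT).exists_symm
  have heP := he.mono hP
  have hin : ∀ y ∈ imgSub e P, e' y ∈ P := fun y hy => by
    obtain ⟨x, hx, rfl⟩ := heP.mem_imgSub.1 hy
    rwa [he'1 x (hP hx)]
  have hle : imgSub e P ≤ T := fun y hy => by
    obtain ⟨x, hx, rfl⟩ := heP.mem_imgSub.1 hy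
    exact heT x (hP hx)
  have hm0 : IsMap E (imgSub e P) (e ∘ (f ∘ e')) :=
    ((he'.isMap.mono hle).comp hf hin).comp he fun y hy => hfT _ (hin y hy)
  obtain ⟨χ, hχ, hχe⟩ := invariant_map hE hb hm0
  have hbm : IsMap F (imgSub e P) (autMap b) :=
    ((mem_autGroup_iff hE.2.1.1).1 hb).mono (hle.trans hTU)
  have haP : imgSub (autMap a) P ≤ imgSub (autMap b) (imgSub e P) := fun y hy => by
    obtain ⟨x, hx, rfl⟩ := (ham.mono hP).mem_imgSub.1 hy
    exact hbm.mem_imgSub.2 ⟨e x, heP.mem_imgSub.2 ⟨x, hx, rfl⟩, (hbe x (hP hx)).symm⟩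
  refine (hχ.mono haP).congr fun y hy => ?_
  obtain ⟨x, hx, rfl⟩ := (ham.mono hP).mem_imgSub.1 hy
  rw [tw_apply a f (hP hx), hbe _ (hfT x hx), hbe x (hP hx),
    hχe _ (heP.mem_imgSub.2 ⟨x, hx, rfl⟩), Function.comp_apply, Function.comp_apply, he'1 x (hP hx)]

/-- An automorphism of order prime to `p` extending one in a normal subsystem lies in it. -/
theorem mem_autGroup_of_coprime (hS : IsPGroup p S) (hE : E.IsWeaklyNormalIn F p)
    (hT : F.StronglyClosed T) (hTU : T ≤ U) {Q N : Subgroup Ω} (hQn : F.IsFullyNormalized Q)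
    (hC : centralizerIn T Q ≤ Q) (hQN : Q ≤ N) (hN : N ≤ normalizerIn T Q) {G : MulAut N}
    {x : MulAut Q} (hG : G ∈ F.autGroup N) (hco : (orderOf G).Coprime p) (hx : x ∈ E.autGroup Q)
    (he : ∀ q ∈ Q, autMap G q = autMap x q) : G ∈ E.autGroup N := by
  have hF := hE.2.1
  have hU := hE.2.2.2.1
  have hsub := hE.2.2.1
  haveI : Finite U := finite_of_le hU.1
  have hUp : IsPGroup p U := hS.to_le hU.1
  have hNT : N ≤ T := fun n hn => (hN hn).1
  have hNS : N ≤ S := hNT.trans hT.1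
  have hQT : Q ≤ T := hQN.trans hNT
  haveI := finite_of_le hNS
  haveI := finite_of_le hQn.1
  have hGm : IsMap F N (autMap G) := (mem_autGroup_iff hNS).1 hG
  have hxi : IsIso E Q Q (autMap x) := isIso_autMap (hQT.trans hTU) hx
  have hconj : ∀ n ∈ N, ∀ q ∈ Q,
      autMap x (n * q * n⁻¹) = autMap G n * autMap x q * (autMap G n)⁻¹ := fun n hn q hq => by
    rw [← he _ ((Subgroup.mem_normalizer_iff.1 (hN hn).2 q).1 hq), ← he q hq, hGm.map_conj hn (hQN hq)]
  obtain ⟨d, hd, hde⟩ := receptive_extend (receptive_of_isFullyNormalized hUp hE.1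
    (isFullyNormalized_sub hS hF hsub hU (hQT.trans hTU) hQn)) hxi (N := N) fun n hn =>
      ⟨hTU (hNT hn), (hN hn).2, autMap G n, hTU (hNT (autMap_mem G hn)), hconj n hn⟩
  replace hd : IsMap E N d := hd.mono le_sup_left
  have hdT : ∀ n ∈ N, d n ∈ T := (stronglyClosed_iff.1 hT).2 N d hNT (isMap_of_sub hsub hd)
  have hdiff : ∀ n ∈ N, (d n)⁻¹ * autMap G n ∈ Q := fun n hn => by
    refine hC (FusionSys.mem_centralizerIn.2
      ⟨mul_mem (inv_mem (hdT n hn)) (hNT (autMap_mem G hn)), fun y hy => ?_⟩)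
    obtain ⟨q, hq, rfl⟩ := hxi.exists_preimage hy
    have h1 := hconj n hn q hq
    rw [← hde _ ((Subgroup.mem_normalizer_iff.1 (hN hn).2 q).1 hq), hd.map_conj hn (hQN hq),
      hde q hq] at h1
    calc autMap x q * ((d n)⁻¹ * autMap G n)
        = (d n)⁻¹ * (d n * autMap x q * (d n)⁻¹) * autMap G n := by group
      _ = _ := by rw [h1]; group
  obtain ⟨δ, hδ, hδe⟩ := (isIso_of_mapsTo hd fun n hn => by
    have h := N.mul_mem (autMap_mem G hn) (N.inv_mem (hQN (hdiff n hn)))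
    rwa [_root_.mul_inv_rev, inv_inv, mul_inv_cancel_left] at h).exists_aut
  have hδF : δ ∈ F.autGroup N :=
    mem_autGroup_of_isMap (isMap_of_sub hsub ((mem_autGroup_iff (hNT.trans hTU)).1 hδ))
  set ε : MulAut N := δ⁻¹ * G with hε
  have hεF : ε ∈ F.autGroup N := mul_mem (inv_mem hδF) hG
  have hεQ : ∀ q ∈ Q, autMap ε q = q := fun q hq => by
    rw [hε, autMap_mul _ _ (hQN hq), he q hq, ← hde q hq, ← hδe q (hQN hq),
      S5114.inv_autMap_apply δ (hQN hq)]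
  have hεm : ∀ n ∈ N, n⁻¹ * autMap ε n ∈ Q := fun n hn => by
    obtain ⟨w, hw, hwe⟩ := hxi.exists_preimage (hdiff n hn)
    rw [← hde w hw] at hwe
    have h1 : autMap G n = autMap δ (n * w) := by
      rw [hδe _ (mul_mem hn (hQN hw)), hd.map_mul hn (hQN hw), hwe, mul_inv_cancel_left]
    rw [hε, autMap_mul _ _ hn, h1, S5114.inv_autMap_apply δ (mul_mem hn (hQN hw)), inv_mul_cancel_left]
    exact hw
  obtain ⟨a, ha⟩ := IsPGroup.iff_card.1 (hS.to_le hQn.1)
  have hεpow : ∀ (j : ℕ), ∀ n ∈ N, autMap (ε ^ j) n = n * (n⁻¹ * autMap ε n) ^ j := by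
    intro j n hn
    induction j with
    | zero => rw [pow_zero, pow_zero, FusionSys.autMap_one hn, mul_one]
    | succ j ih =>
      have hj := Q.pow_mem (hεm n hn) j
      rw [pow_succ', autMap_mul _ _ hn, ih, (isIso_autMap hNS hεF).isMap.map_mul hn (hQN hj),
        hεQ _ hj, pow_succ', ← mul_assoc n, mul_inv_cancel_left]
  have hεa : ε ^ p ^ a = 1 := aut_ext fun n hn => by
    rw [hεpow _ n hn, ← ha, show (n⁻¹ * autMap ε n) ^ Nat.card Q = 1 from
      congrArg Subtype.val (pow_card_eq_one' (x := (⟨_, hεm n hn⟩ : Q))), mul_one,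
      FusionSys.autMap_one hn]
  have hGpow : ∀ j : ℕ, ∃ h ∈ E.autGroup N, G ^ j = h * ε ^ j := by
    intro j
    induction j with
    | zero => exact ⟨1, one_mem _, by rw [pow_zero, pow_zero, one_mul]⟩
    | succ j ih =>
      obtain ⟨h, hh, he'⟩ := ih
      refine ⟨h * (ε ^ j * δ * (ε ^ j)⁻¹), mul_mem hh
        (WeakResidual.conj_mem_autGroup hE.2.2 (hNT.trans hTU) (pow_mem hεF j) hδ), ?_⟩
      rw [pow_succ, he', pow_succ, show G = δ * ε by rw [hε, mul_inv_cancel_left]]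
      group
  have hGa : G ^ p ^ a ∈ E.autGroup N := by
    obtain ⟨h, hh, he'⟩ := hGpow (p ^ a)
    rw [he', hεa, mul_one]
    exact hh
  obtain ⟨c, hc⟩ := exists_pow_eq_self_of_coprime (x := G) (Nat.Coprime.pow_right a hco).symm
  rw [← hc]
  exact pow_mem hGa c

/-- The `p`-automorphisms from `S` in a normal subsystem come from its subgroup. -/
theorem inf_autInducedBy_le (hS : IsPGroup p S) (hE : E.IsWeaklyNormalIn F p) {Q : Subgroup Ω}
    (hQU : Q ≤ U) (hQn : F.IsFullyNormalized Q) :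
    E.autGroup Q ⊓ autInducedBy S Q ≤ autInducedBy U Q := by
  have hU := hE.2.2.2.1
  haveI : Finite U := finite_of_le hU.1
  haveI := finite_mulAut_of_le hQn.1
  have hUp : IsPGroup p U := hS.to_le hU.1
  have hsyl := isSylowIn_of_fullyAutomized hUp (isFullyAutomized_of_isFullyNormalized hUp hE.1
    (isFullyNormalized_sub hS hE.2.1 hE.2.2.1 hU hQU hQn))
  exact (hsyl.eq_of_le ((isPGroup_autInducedBy hS Q).to_le inf_le_right) inf_le_left
    (le_inf (autInducedBy_le_autGroup E hQU) (autInducedBy_mono hU.1))).ge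

variable (hS : IsPGroup p S) (h₁ : E₁.IsNormalIn F p) (h₂ : E₂.IsNormalIn F p)
include hS h₁ h₂

/-- The focal condition. -/
theorem meet_focal {I : FusionSystem (T₁ ⊓ T₂)} (hsubI : I.IsSubsystemOf F)
    (hI : ∀ (P : Subgroup Ω) (f : Ω → Ω), IsMap I P f → IsMap E₁ P f ∧ IsMap E₂ P f)
    (hconj : ∀ (Q : Subgroup Ω), Q ≤ T₁ ⊓ T₂ → ∀ (γ α : MulAut Q), γ ∈ F.autGroup Q →
      α ∈ I.autGroup Q → γ * α * γ⁻¹ ∈ I.autGroup Q)
    {Q : Subgroup Ω} (hQT : Q ≤ T₁ ⊓ T₂) (hQn : F.IsFullyNormalized Q) :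
    (pResidual p (I.autGroup Q)).map (I.autGroup Q).subtype ⊓ autInducedBy S Q ≤
      autInducedBy (T₁ ⊓ T₂) Q := by
  have hF := h₁.1.2.1
  have hc₁ := h₁.1.2.2.2.1
  have hc₂ := h₂.1.2.2.2.1
  have hQS := hQn.1
  have hQ₁ : Q ≤ T₁ := hQT.trans inf_le_left
  have hQ₂ : Q ≤ T₂ := hQT.trans inf_le_right
  haveI := finite_of_le hQS
  haveI := finite_mulAut_of_le hQS
  set A := I.autGroup Q with hA
  have hAF : A ≤ F.autGroup Q := fun α hα =>
    mem_autGroup_of_isMap (isMap_of_sub hsubI ((mem_autGroup_iff hQT).1 hα))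
  have hA₁ : A ≤ E₁.autGroup Q := fun α hα =>
    (mem_autGroup_iff hQ₁).2 (hI Q _ ((mem_autGroup_iff hQT).1 hα)).1
  have hA₂ : A ≤ E₂.autGroup Q := fun α hα =>
    (mem_autGroup_iff hQ₂).2 (hI Q _ ((mem_autGroup_iff hQT).1 hα)).2
  haveI := finite_autGroup F hQS
  obtain ⟨-, Sy, hSy⟩ := isFullyAutomized_of_isFullyNormalized hS hF hQn
  haveI : (A.subgroupOf (F.autGroup Q)).Normal := ⟨fun _ hn g => hconj Q hQT _ _ g.2 hn⟩
  have hsy : IsSylowIn p (A ⊓ autInducedBy S Q) A := by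
    have h := H48.isSylowIn_inf_normal Sy (A.subgroupOf (F.autGroup Q))
    refine ⟨inf_le_left, (isPGroup_autInducedBy hS Q).to_le inf_le_right, fun hd => h.ndvd ?_⟩
    have h1 : (Sy : Subgroup (F.autGroup Q)) ⊓ A.subgroupOf (F.autGroup Q) =
        (A ⊓ autInducedBy S Q).comap (F.autGroup Q).subtype := by
      rw [hSy, inf_comm, Subgroup.comap_inf]
      rfl
    rw [h1, Subgroup.relIndex_comap, Subgroup.map_subgroupOf_eq_of_le hAF]
    exact hd
  set P0 : Sylow p A := hsy.toSylow with hP0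
  set U₀ := autInducedBy (T₁ ⊓ T₂) Q with hU₀
  have hP0mem : ∀ {y : A}, y ∈ (P0 : Subgroup A) → (y : MulAut Q) ∈ autInducedBy S Q := fun {y} hy => by
    rw [hP0, hsy.coe_toSylow] at hy
    exact (Subgroup.mem_inf.1 (Subgroup.mem_subgroupOf.1 hy)).2
  -- normalizers of tame intersections commute with them modulo `Aut_T(Q)`
  have key : ∀ (P' : Sylow p A), Fusion.IsTame P0 P' → ∀ n : A,
      n ∈ Subgroup.normalizer (((P0 : Subgroup A) ⊓ (P' : Subgroup A) : Subgroup A) : Set A) →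
      ∀ y ∈ (P0 : Subgroup A) ⊓ (P' : Subgroup A),
        ((y : A) : MulAut Q)⁻¹ * ((n : MulAut Q) * y * (n : MulAut Q)⁻¹) ∈ U₀ := by
    intro P' htame
    set Y0 : Subgroup A := (P0 : Subgroup A) ⊓ (P' : Subgroup A) with hY0
    set N := Subgroup.normalizer (Y0 : Set A) with hN
    let K : Subgroup N := finSub
      { carrier := {n | ∀ y ∈ Y0,
          ((y : A) : MulAut Q)⁻¹ * (((n : A) : MulAut Q) * y * ((n : A) : MulAut Q)⁻¹) ∈ U₀}
        one_mem' := fun y _ => by simp [U₀.one_mem]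
        mul_mem' := fun {a b} ha hb y hy => by
          have h1 := hb y hy
          have h2 := ha _ ((Subgroup.mem_normalizer_iff.1 b.2 y).1 hy)
          have h3 := U₀.mul_mem h1 h2
          convert h3 using 1
          simp only [Subgroup.coe_mul, Subgroup.coe_inv]
          group }
    have hsyN : IsSylowIn p ((P0 : Subgroup A) ⊓ N) N :=
      ⟨inf_le_right, P0.isPGroup'.to_le inf_le_left, htame.1⟩
    suffices h : K = ⊤ from fun n hn => h.ge (Subgroup.mem_top (⟨n, hn⟩ : N))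
    refine top_le_iff.1 ((Fusion.sylow_sup_pResidual hsyN.toSylow).ge.trans (sup_le (fun n hn => ?_) ?_))
    · rw [hsyN.coe_toSylow] at hn
      have hn₀ : (n : A) ∈ (P0 : Subgroup A) := (Subgroup.mem_subgroupOf.1 hn).1
      intro y hy
      obtain ⟨t₁, ht₁, hn₁, he₁⟩ := mem_autInducedBy.1
        (inf_autInducedBy_le hS h₁.1 hQ₁ hQn ⟨hA₁ y.2, hP0mem hy.1⟩)
      obtain ⟨t₂, ht₂, hn₂, he₂⟩ := mem_autInducedBy.1
        (inf_autInducedBy_le hS h₂.1 hQ₂ hQn ⟨hA₂ (n : A).2, hP0mem hn₀⟩)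
      refine mem_autInducedBy.2 ⟨t₁⁻¹ * (t₂ * t₁ * t₂⁻¹), ⟨?_, ?_⟩,
        mul_mem (inv_mem hn₁) (mul_mem (mul_mem hn₂ hn₁) (inv_mem hn₂)), ?_⟩
      · exact T₁.mul_mem (T₁.inv_mem ht₁) (conj_mem_closed hc₁ (hc₂.1 ht₂) ht₁)
      · have := T₂.mul_mem (conj_mem_closed hc₂ (S.inv_mem (hc₁.1 ht₁)) ht₂) (T₂.inv_mem ht₂)
        rw [inv_inv] at this
        simpa [mul_assoc] using this
      · rw [he₁, he₂]
        show (conjAutHom Q ⟨t₁, hn₁⟩)⁻¹ * (conjAutHom Q ⟨t₂, hn₂⟩ * conjAutHom Q ⟨t₁, hn₁⟩ *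
          (conjAutHom Q ⟨t₂, hn₂⟩)⁻¹) = _
        rw [← map_inv, ← map_inv, ← map_mul, ← map_mul, ← map_mul]
        rfl
    · refine Cores.pResidual_le fun n hn y hy => ?_
      set x : MulAut Q := ((n : A) : MulAut Q) with hx
      set Y : Subgroup (MulAut Q) := Y0.map A.subtype ⊔ Inn Q with hY
      have hYT : Y ≤ autInducedBy T₂ Q := by
        refine sup_le ?_ ?_
        · rintro _ ⟨z, hz, rfl⟩
          exact inf_autInducedBy_le hS h₂.1 hQ₂ hQn ⟨hA₂ z.2, hP0mem hz.1⟩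
        · rw [inn_eq_autInducedBy_self]
          exact autInducedBy_mono hQ₂
      have hxY : ∀ w ∈ Y, x * w * x⁻¹ ∈ Y := by
        have hle : Y ≤ Y.comap (MulAut.conj x).toMonoidHom := sup_le (by
          rintro _ ⟨z, hz, rfl⟩
          exact Subgroup.mem_sup_left
            ⟨_, (Subgroup.mem_normalizer_iff.1 n.2 z).1 hz, rfl⟩) (Lift.inn_conj le_sup_right x)
        exact fun w hw => hle hw
      set M := nSub S Q Y with hM
      obtain ⟨G, hG, hGx, hGm⟩ : ∃ G ∈ F.autGroup M, (∀ q ∈ Q, autMap G q = autMap x q) ∧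
          ∀ m ∈ M, m⁻¹ * autMap G m ∈ T₂ := exists_mod_ext hS h₂ hQ₂ hQn le_sup_right hYT (hA₂ (n : A).2)
        (by rwa [Subgroup.orderOf_coe, Subgroup.orderOf_coe]) hxY
      have hMS : M ≤ S := Lift.nSub_le
      obtain ⟨t₁, ht₁, hn₁, he₁⟩ := mem_autInducedBy.1
        (inf_autInducedBy_le hS h₁.1 hQ₁ hQn ⟨hA₁ y.2, hP0mem hy.1⟩)
      have htM : t₁ ∈ M := mem_nSub.2 ⟨⟨hc₁.1 ht₁, hn₁⟩,
        Subgroup.mem_sup_left ⟨y, hy, he₁⟩⟩
      have hQM : Q ≤ M := Lift.le_nSub hQS le_sup_right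
      have hGM : IsMap F M (autMap G) := (mem_autGroup_iff hMS).1 hG
      have hGt : autMap G t₁ ∈ M := autMap_mem G htM
      have hGt₁ : autMap G t₁ ∈ T₁ := (stronglyClosed_iff.1 hc₁).2 (M ⊓ T₁) _ inf_le_right
        (hGM.mono inf_le_left) t₁ ⟨htM, ht₁⟩
      have hGn : autMap G t₁ ∈ Subgroup.normalizer (Q : Set Ω) := (mem_nSub.1 hGt).1.2
      refine mem_autInducedBy.2 ⟨t₁⁻¹ * autMap G t₁,
        ⟨T₁.mul_mem (T₁.inv_mem ht₁) hGt₁, hGm t₁ htM⟩, mul_mem (inv_mem hn₁) hGn, ?_⟩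
      have hxy : x * (y : MulAut Q) * x⁻¹ = conjAut hGn := aut_ext fun z hz => by
        obtain ⟨w, hw, rfl⟩ : ∃ w ∈ Q, autMap x w = z :=
          ⟨_, autMap_mem _ hz, autMap_inv_apply x hz⟩
        have hxw := autMap_mem x hw
        rw [autMap_mul _ _ hxw, S5114.inv_autMap_apply x hw, autMap_mul _ _ hw, he₁,
          autMap_conjAut hn₁ hw, autMap_conjAut hGn hxw, conjMap_apply, conjMap_apply,
          ← hGx _ ((Subgroup.mem_normalizer_iff.1 hn₁ w).1 hw), hGM.map_conj htM (hQM hw), hGx w hw]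
      rw [hxy, he₁]
      show (conjAutHom Q ⟨t₁, hn₁⟩)⁻¹ * conjAutHom Q ⟨autMap G t₁, hGn⟩ = _
      rw [← map_inv, ← map_mul]
      rfl
  have main : ∀ (w g : A), w ∈ (P0 : Subgroup A) → g⁻¹ * w * g ∈ (P0 : Subgroup A) →
      (w : MulAut Q)⁻¹ * ((g : MulAut Q)⁻¹ * w * (g : MulAut Q)) ∈ U₀ := by
    intro w g hw hwg
    have h : Fusion.Conn P0 {w} g := Fusion.alperin P0 (by rintro _ rfl; exact hw)
      (by rintro _ ⟨a, rfl, rfl⟩; exact hwg)
    suffices H : ∀ (B : Set A) (g : A), Fusion.Conn P0 B g → ∀ a ∈ B,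
        (a : MulAut Q)⁻¹ * ((g : MulAut Q)⁻¹ * a * (g : MulAut Q)) ∈ U₀ from H _ _ h w rfl
    intro B g hB
    induction hB with
    | refl B => intro a _; simp [U₀.one_mem]
    | step B g x P' htame hB hx _ ih =>
      intro a ha
      have h1 := key P' htame x⁻¹ (inv_mem hx) a (hB ha)
      have h2 := ih _ ⟨a, ha, rfl⟩
      have h3 := U₀.mul_mem h1 h2
      convert h3 using 1
      simp only [Subgroup.coe_mul, Subgroup.coe_inv]
      group
  rintro _ ⟨⟨x, hx, rfl⟩, hxS⟩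
  have hxP : x ∈ (P0 : Subgroup A) := by
    rw [hP0, hsy.coe_toSylow]
    exact Subgroup.mem_subgroupOf.2 ⟨x.2, hxS⟩
  have hfoc : x ∈ (P0 : Subgroup A).focalSubgroup :=
    (Fusion.pResidual_sup_commutator_inf P0).le ⟨Subgroup.mem_sup_left hx, hxP⟩
  have hle : (P0 : Subgroup A).focalSubgroup ≤ U₀.comap A.subtype := by
    rw [Subgroup.focalSubgroup_def, Subgroup.closure_le]
    rintro _ ⟨hmem, y, hy, g, rfl⟩
    have hg : g⁻¹⁻¹ * y⁻¹ * g⁻¹ ∈ (P0 : Subgroup A) := by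
      have := mul_mem (inv_mem hy) hmem
      convert this using 1
      rw [commutatorElement_def]
      group
    have h := main y⁻¹ g⁻¹ (inv_mem hy) hg
    show ((⁅y, g⁆ : A) : MulAut Q) ∈ U₀
    convert h using 1
    simp only [commutatorElement_def, Subgroup.coe_mul, Subgroup.coe_inv]
    group
  exact hle hfoc

/-- The common maps of two normal subsystems form a family as required. -/
theorem meet_setup : Setup p F (meetSys h₁.1.2.2.1 (inf_le_left.trans h₁.1.2.2.2.1.1) E₂) where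
  hS := hS
  hF := h₁.1.2.1
  hT := closed_inf h₁.1.2.2.2.1 h₂.1.2.2.2.1
  sub := meetSys_sub _ _
  tw_mem := fun a ha P f hf => by
    have hT := closed_inf h₁.1.2.2.2.1 h₂.1.2.2.2.1
    obtain ⟨hf₁, hf₂⟩ := (isMap_meetSys _ _).1 hf
    exact (isMap_meetSys _ _).2 ⟨tw_invariant h₁.1.2.2 hT inf_le_left ha (le_inf hf₁.le hf₂.le) hf₁,
      tw_invariant h₂.1.2.2 hT inf_le_right ha (le_inf hf₁.le hf₂.le) hf₂⟩
  conj_mem := fun Q hQ γ α hγ hα => by
    obtain ⟨hα₁, hα₂⟩ := (autGroup_meetSys _ _ hQ).1 hα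
    exact (autGroup_meetSys _ _ hQ).2
      ⟨WeakResidual.conj_mem_autGroup h₁.1.2.2 (hQ.trans inf_le_left) hγ hα₁,
        WeakResidual.conj_mem_autGroup h₂.1.2.2 (hQ.trans inf_le_right) hγ hα₂⟩
  ext := fun Q N hQ hQn hQN hN G x hG hco hx he => by
    have hT := closed_inf h₁.1.2.2.2.1 h₂.1.2.2.2.1
    have hC := hQ.2 Q (isConj_refl F hQn.1)
    obtain ⟨hx₁, hx₂⟩ := (autGroup_meetSys _ _ hQ.1).1 hx
    exact (autGroup_meetSys _ _ (hN.trans normalizerIn_le)).2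
      ⟨mem_autGroup_of_coprime hS h₁.1 hT inf_le_left hQn hC hQN hN hG hco hx₁ he,
        mem_autGroup_of_coprime hS h₂.1 hT inf_le_right hQn hC hQN hN hG hco hx₂ he⟩
  focal := fun Q hQ hQn => by
    refine meet_focal hS h₁ h₂ (meetSys_sub _ _) (fun P f h => (isMap_meetSys _ _).1 h)
      (fun R hR γ α hγ hα => ?_) hQ.1 hQn
    obtain ⟨hα₁, hα₂⟩ := (autGroup_meetSys _ _ hR).1 hα
    exact (autGroup_meetSys _ _ hR).2
      ⟨WeakResidual.conj_mem_autGroup h₁.1.2.2 (hR.trans inf_le_left) hγ hα₁,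
        WeakResidual.conj_mem_autGroup h₂.1.2.2 (hR.trans inf_le_right) hγ hα₂⟩

end Cfsg.Agent.H89.Gen
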