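import Cfsg.Agent.H89.Lift.Sub
import Cfsg.Agent.H91.CentSE.Good

/-!
The subsystem over a strongly closed subgroup `T` generated by the elements of order prime to `p` of the
automorphism groups of a given invariant family `I` on self-centralizing subgroups.
-/

set_option autoImplicit false
set_option linter.style.haveILetI false
set_option linter.unusedSectionVars false

namespace Cfsg.Agent.H89.Gen

open Cfsg Cfsg.FusionSystem Cfsg.Agent.FusionSys Cfsg.Agent.H91.CentFocal
open Cfsg.Agent.H91.CentSE (Ctr)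
open Cfsg.Agent.H89.Lift (tw tw_apply isMap_subSys)
open Cfsg.FusionSystem (centralizerIn normalizerIn)

universe u

variable {Ω : Type u} [Group Ω] {S T : Subgroup Ω} {p : ℕ} {F : FusionSystem S} {I : FusionSystem T}

/-- Subgroups of `T` all conjugates of which contain their centralizer in `T`. -/
def InH (F : FusionSystem S) (T P : Subgroup Ω) : Prop := P ≤ T ∧ Ctr F T P

/-- The hypotheses on the family `I`. -/
structure Setup (p : ℕ) (F : FusionSystem S) (I : FusionSystem T) : Prop where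
  hS : IsPGroup p S
  hF : F.IsSaturated p
  hT : F.StronglyClosed T
  sub : I.IsSubsystemOf F
  tw_mem : ∀ (a : MulAut T), a ∈ F.autGroup T → ∀ (P : Subgroup Ω) (f : Ω → Ω), IsMap I P f →
    IsMap I (imgSub (autMap a) P) (tw a f)
  conj_mem : ∀ (Q : Subgroup Ω), Q ≤ T → ∀ (γ α : MulAut Q), γ ∈ F.autGroup Q → α ∈ I.autGroup Q →
    γ * α * γ⁻¹ ∈ I.autGroup Q
  ext : ∀ (Q N : Subgroup Ω), InH F T Q → F.IsFullyNormalized Q → Q ≤ N → N ≤ normalizerIn T Q →
    ∀ (G : MulAut N) (x : MulAut Q), G ∈ F.autGroup N → (orderOf G).Coprime p → x ∈ I.autGroup Q →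
      (∀ q ∈ Q, autMap G q = autMap x q) → G ∈ I.autGroup N
  focal : ∀ (Q : Subgroup Ω), InH F T Q → F.IsFullyNormalized Q →
    (pResidual p (I.autGroup Q)).map (I.autGroup Q).subtype ⊓ autInducedBy S Q ≤ autInducedBy T Q

/-- `E'` contains the generating automorphisms. -/
def HasGens (p : ℕ) (F : FusionSystem S) (I E' : FusionSystem T) : Prop :=
  ∀ (Q : Subgroup Ω) (α : MulAut Q), InH F T Q → (orderOf α).Coprime p →
    IsMap I Q (autMap α) → IsMap E' Q (autMap α)

/-- The maps lying in every system with the generating automorphisms. -/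
def InD (p : ℕ) (F : FusionSystem S) (I : FusionSystem T) (P : Subgroup Ω) (f : Ω → Ω) : Prop :=
  ∀ E' : FusionSystem T, HasGens p F I E' → IsMap E' P f

theorem InD.congr {P : Subgroup Ω} {f g : Ω → Ω} (h : InD p F I P f)
    (he : ∀ x ∈ P, g x = f x) : InD p F I P g := fun E' hE' => (h E' hE').congr he

theorem InD.mono {P R : Subgroup Ω} {f : Ω → Ω} (h : InD p F I R f) (hle : P ≤ R) :
    InD p F I P f := fun E' hE' => (h E' hE').mono hle

theorem InD.comp {P Q : Subgroup Ω} {f g : Ω → Ω} (hf : InD p F I P f)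
    (hg : InD p F I Q g) (hm : ∀ x ∈ P, f x ∈ Q) : InD p F I P (g ∘ f) :=
  fun E' hE' => (hf E' hE').comp (hg E' hE') hm

theorem InD.conj {P : Subgroup Ω} (hP : P ≤ T) {a : Ω} (ha : a ∈ T) :
    InD p F I P (conjMap a) :=
  fun E' _ => isMap_conj E' hP ha

theorem InD.gen {Q : Subgroup Ω} {α : MulAut Q} (hQ : InH F T Q) (hα : (orderOf α).Coprime p)
    (hi : IsMap I Q (autMap α)) : InD p F I Q (autMap α) :=
  fun _ hE' => hE' Q α hQ hα hi

namespace Setup

variable (hs : Setup p F I)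
include hs

theorem T_le : T ≤ S := hs.hT.1

theorem T_conj {s t : Ω} (hs' : s ∈ S) (ht : t ∈ T) : s * t * s⁻¹ ∈ T :=
  conj_mem_closed hs.hT hs' ht

theorem isMap_F {P : Subgroup Ω} {f : Ω → Ω} (h : IsMap I P f) : IsMap F P f :=
  isMap_of_sub hs.sub h

theorem hasGens_I : HasGens p F I I := fun _ _ _ _ h => h

theorem ind_of_inD {P : Subgroup Ω} {f : Ω → Ω} (h : InD p F I P f) : IsMap I P f :=
  h _ hs.hasGens_I

theorem inD_inv {P Q : Subgroup Ω} {f g : Ω → Ω} (hf : IsIso F P Q f)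
    (hgf : ∀ x ∈ P, g (f x) = x) (h : InD p F I P f) : InD p F I Q g := by
  intro E' hE'
  obtain ⟨g', hg', hg'f⟩ := (h E' hE').exists_inv
  rw [← hf.eq_imgSub] at hg'
  refine hg'.congr fun y hy => ?_
  obtain ⟨x, hx, rfl⟩ := hf.exists_preimage hy
  rw [hgf x hx, hg'f x hx]

/-- The generated subsystem. -/
noncomputable def D0 : FusionSystem T :=
  FusionSys.subSys I (InD p F I) (fun _ _ _ h he => h.congr he)
    (fun _ _ hP ha => InD.conj hP ha) (fun _ _ _ _ _ _ hm h1 h2 => h1.comp h2 hm)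
    (fun _ _ _ _ hf _ hgf h => hs.inD_inv (isIso_of_sub hs.sub hf) hgf h)

theorem isMap_D0 {P : Subgroup Ω} {f : Ω → Ω} : IsMap hs.D0 P f ↔ InD p F I P f := by
  refine isMap_subSys.trans ?_
  exact ⟨fun h => h.2, fun h => ⟨hs.ind_of_inD h, h⟩⟩

theorem D0_le : hs.D0.IsSubsystemOf I :=
  isSubsystemOf_iff_isMap.2 fun _ _ h => hs.ind_of_inD (hs.isMap_D0.1 h)

theorem D0_sub : hs.D0.IsSubsystemOf F :=
  isSubsystemOf_iff_isMap.2 fun _ _ h => hs.isMap_F (hs.ind_of_inD (hs.isMap_D0.1 h))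

theorem isIso_D0 {P Q : Subgroup Ω} {f : Ω → Ω} (h : IsIso hs.D0 P Q f) : IsIso F P Q f :=
  isIso_of_sub hs.D0_sub h

theorem hasGens_D0 : HasGens p F I hs.D0 := fun _ _ h1 h2 h3 =>
  hs.isMap_D0.2 (InD.gen h1 h2 h3)

variable [Finite S] [Fact p.Prime]

theorem finite_T : Finite T := finite_of_le hs.T_le

theorem inH_T : InH F T T := by
  haveI := hs.finite_T
  refine ⟨le_rfl, fun R hR c hc => ?_⟩
  obtain ⟨f, hf⟩ := isConj_iff.1 hR
  have hRT := target_le_of_closed hs.hT le_rfl hf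
  rw [Subgroup.eq_of_le_of_card_ge hRT hf.card_eq.le]
  exact centralizerIn_le hc

theorem inH_up {P R : Subgroup Ω} (hP : InH F T P) (hle : P ≤ R) (hR : R ≤ T) : InH F T R :=
  ⟨hR, hP.2.mono hle⟩

/-- The class is invariant. -/
theorem inH_map {P Q : Subgroup Ω} {f : Ω → Ω} (hP : InH F T P) (hf : IsIso F P Q f) :
    InH F T Q :=
  ⟨target_le_of_closed hs.hT hP.1 hf, hP.2.of_isConj hf.isConj⟩

theorem inH_iso {P R : Subgroup Ω} {f : Ω → Ω} (hf : IsIso F P R f) :
    InH F T P ↔ InH F T R := by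
  refine ⟨fun h => hs.inH_map h hf, fun h => ?_⟩
  obtain ⟨v, hv, -, -⟩ := hf.exists_symm
  exact hs.inH_map h hv

/-! ### Invariance under the automorphisms of `T` -/

variable {a : MulAut T}

theorem isMap_aut (ha : a ∈ F.autGroup T) : IsMap F T (autMap a) :=
  (mem_autGroup_iff hs.T_le).1 ha

theorem inD_tw (ha : a ∈ F.autGroup T) {P : Subgroup Ω} {f : Ω → Ω}
    (h : InD p F I P f) : InD p F I (imgSub (autMap a) P) (tw a f) := by
  intro E' hE'
  have hb := hs.isMap_aut ha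
  let E'' : FusionSystem T := FusionSys.subSys I
    (fun P f => P ≤ T → (∀ x ∈ P, f x ∈ T) → IsMap E' (imgSub (autMap a) P) (tw a f))
    (by
      intro P f g hf he hP hm
      refine (hf hP fun x hx => he x hx ▸ hm x hx).congr fun y hy => ?_
      obtain ⟨x, hx, rfl⟩ := (hb.mono hP).mem_imgSub.1 hy
      rw [tw_apply a g (hP hx), tw_apply a f (hP hx), he x hx])
    (by
      intro P b _ hb' hP _
      refine (isMap_conj E' (fun y hy => ?_) (autMap_mem a hb')).congr fun y hy => ?_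
      · obtain ⟨x, hx, rfl⟩ := (hb.mono hP).mem_imgSub.1 hy
        exact autMap_mem _ (hP hx)
      · obtain ⟨x, hx, rfl⟩ := (hb.mono hP).mem_imgSub.1 hy
        rw [tw_apply a _ (hP hx), conjMap_apply, conjMap_apply]
        exact hb.map_conj hb' (hP hx))
    (by
      intro P Q f g hfF hgF hPQ hf hg hP _
      have hf' := hf hP fun x hx => hfF.mem_S hx
      have hg' := hg hgF.le fun x hx => hgF.mem_S hx
      refine (hf'.comp hg' fun y hy => ?_).congr fun y hy => ?_
      · obtain ⟨x, hx, rfl⟩ := (hb.mono hP).mem_imgSub.1 hy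
        rw [tw_apply a f (hP hx)]
        exact (hb.mono hgF.le).mem_imgSub.2 ⟨_, hPQ x hx, rfl⟩
      · obtain ⟨x, hx, rfl⟩ := (hb.mono hP).mem_imgSub.1 hy
        rw [Function.comp_apply, tw_apply a (g ∘ f) (hP hx), tw_apply a f (hP hx),
          tw_apply a g (hgF.le (hPQ x hx)), Function.comp_apply])
    (by
      intro P Q f g hf hg hgf hΦ hQ _
      have hf' := hΦ hf.source_le fun x hx => hf.isMap.mem_S hx
      obtain ⟨g', hg', hgf'⟩ := hf'.exists_inv
      have hle : imgSub (autMap a) Q ≤ imgSub (tw a f) (imgSub (autMap a) P) := by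
        intro y hy
        obtain ⟨z, hz, rfl⟩ := (hb.mono hQ).mem_imgSub.1 hy
        obtain ⟨x, hx, rfl⟩ := hf.exists_preimage hz
        exact hf'.mem_imgSub.2 ⟨autMap a x,
          (hb.mono hf.source_le).mem_imgSub.2 ⟨x, hx, rfl⟩, tw_apply a f (hf.source_le hx)⟩
      refine (hg'.mono hle).congr fun y hy => ?_
      obtain ⟨z, hz, rfl⟩ := (hb.mono hQ).mem_imgSub.1 hy
      obtain ⟨x, hx, rfl⟩ := hf.exists_preimage hz
      have h1 := hgf' (autMap a x) ((hb.mono hf.source_le).mem_imgSub.2 ⟨x, hx, rfl⟩)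
      rw [tw_apply a f (hf.source_le hx)] at h1
      rw [tw_apply a g (hQ (hf.mem hx)), hgf x hx, h1])
  have hE'' : HasGens p F I E'' := by
    intro Q α hQ hα hi
    refine isMap_subSys.2 ⟨hi, fun hQT _ => ?_⟩
    have hQi : IsIso F Q (imgSub (autMap a) Q) (autMap a) := (hb.mono hQT).isIso
    have he : ∀ y ∈ imgSub (autMap a) Q, tw a (autMap α) y = autMap (hQi.autEquiv α) y := fun y hy => by
      obtain ⟨x, hx, rfl⟩ := (hb.mono hQT).mem_imgSub.1 hy
      rw [tw_apply a _ (hQT hx), hQi.autMap_autEquiv α hx]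
    exact (hE' _ (hQi.autEquiv α) (hs.inH_map hQ hQi) (by rwa [MulEquiv.orderOf_eq])
      ((hs.tw_mem a ha _ _ hi).congr fun y hy => (he y hy).symm)).congr he
  exact (isMap_subSys.1 (h E'' hE'')).2 (hs.ind_of_inD h).le
    fun x hx => (hs.ind_of_inD h).mem_S hx

theorem isMap_D0_tw (ha : a ∈ F.autGroup T) {P : Subgroup Ω} {f : Ω → Ω}
    (h : IsMap hs.D0 P f) : IsMap hs.D0 (imgSub (autMap a) P) (tw a f) :=
  hs.isMap_D0.2 (hs.inD_tw ha (hs.isMap_D0.1 h))

end Setup

end Cfsg.Agent.H89.Gen
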